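import Cfsg.Agent.Mrg.Omega.NOThreeL.Star
import Cfsg.Agent.Mrg.Omega.VP
import Cfsg.Agent.Omega.NOThreeL.Geo


/-!
# THEOREM NF (#17343), (2)-(4)

`V = VS S = zl S ⟨P*(S)⟩`, `A ≤ S` optimal on `V` (`Star.Opt`), `P ∈ P*(S)` with `[V_P, A] ≠ 1` (`Mv S P A`).

* `Mv.minOff` : `A` is a minimal offender on `V_P`; `Mv.comm_eq` : `[V, A] = [V_P, A]`;
* `LL P A = ⟨A^P⟩`, `Mv.triv` : `[V, LL] ≤ V_P`; `Mv.cent_LL` : `C_V(LL) = 1`;
* `Mv.le_line` : **(3)** `V_{P'} ≤ V_P` for all `P' ∈ P*(S)`;
* `Mv.ne_cent` : **(4)** no optimal `B ≤ S` centralises `V_P`.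
-/

set_option autoImplicit false

namespace Cfsg.Agent.Omega.NOThreeL.NF

open Subgroup Cfsg
open Cfsg.Agent.ZN Cfsg.Agent.ZN.ChoiceBase
open Cfsg.Agent.Omega.MinPar Cfsg.Agent.Omega.Frame Cfsg.Agent.Omega.FrameNOFF
open Cfsg.Agent.Omega.NO3b.EZero (NotFF cent_symm cj_cent cj_norm)
open Cfsg.Agent.Omega.FFThm (ElemM OffM NoOverM ConclM)
open Cfsg.Agent.Omega.NOThreeL.Star
open Cfsg.Agent.MinSimple.VModule (mem_zc zc_le zc_sq zc_comm le_centralizer_zc zc_le_zl zl_le
  le_normalizer_zl normalizer_le_normalizer_zc le_normalizer_o2 o2_isPGroup o2_le)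
open scoped commutatorElement

universe u

variable {G : Type u} [Group G]

/-- `V* = ⟨Ω₁(Z(S))^{⟨P*(S)⟩}⟩` -/
def VS (S : Subgroup G) : Subgroup G := zl S (YS S)

/-- `⟨A^P⟩` -/
def LL (P A : Subgroup G) : Subgroup G := ⨆ p : P, cj (p : G) A

theorem le_LL (P A : Subgroup G) : A ≤ LL P A := by
  have h := le_iSup (fun p : P => cj (p : G) A) 1
  have e : cj ((1 : P) : G) A = A := cj_one A
  rw [e] at h
  exact h

theorem cj_le_LL {P A : Subgroup G} {p : G} (hp : p ∈ P) : cj p A ≤ LL P A :=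
  le_iSup (fun p : P => cj (p : G) A) ⟨p, hp⟩

theorem LL_le {P A B : Subgroup G} (h : ∀ p ∈ P, cj p A ≤ B) : LL P A ≤ B :=
  iSup_le fun p => h p p.2

theorem LL_le_self {P A : Subgroup G} (hA : A ≤ P) : LL P A ≤ P := LL_le fun p hp => by
  have h := cj_mono p hA
  rwa [cj_eq_of_mem_normalizer (le_normalizer hp)] at h

theorem le_normalizer_LL [Finite G] (P A : Subgroup G) : P ≤ normalizer (LL P A : Set G) := by
  intro p hp
  apply mem_normalizer_of_cj_le
  rw [cj_le_iff]
  refine LL_le fun q hq => ?_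
  rw [← cj_le_iff, cj_cj]
  exact cj_le_LL (mul_mem hp hq)

/-- elements acting trivially on `V / W` -/
def KK (V W : Subgroup G) (hW : W ≤ V) : Subgroup G where
  carrier := {l | l ∈ normalizer (V : Set G) ∧ l ∈ normalizer (W : Set G) ∧ ∀ v ∈ V, l * v * l⁻¹ * v⁻¹ ∈ W}
  one_mem' := ⟨one_mem _, one_mem _, fun v _ => by
    have e : 1 * v * 1⁻¹ * v⁻¹ = 1 := by group
    rw [e]; exact one_mem _⟩
  mul_mem' := by
    rintro a b ⟨a1, a2, a3⟩ ⟨b1, b2, b3⟩
    refine ⟨mul_mem a1 b1, mul_mem a2 b2, fun v hv => ?_⟩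
    have h1 := (mem_normalizer_iff.1 a2 _).1 (b3 v hv)
    have h2 := a3 v hv
    have e : a * b * v * (a * b)⁻¹ * v⁻¹ = (a * (b * v * b⁻¹ * v⁻¹) * a⁻¹) * (a * v * a⁻¹ * v⁻¹) := by group
    rw [e]; exact mul_mem h1 h2
  inv_mem' := by
    rintro a ⟨a1, a2, a3⟩
    refine ⟨inv_mem a1, inv_mem a2, fun v hv => ?_⟩
    have h1 := a3 _ ((mem_normalizer_iff''.1 a1 v).1 hv)
    have e : a⁻¹ * v * a⁻¹⁻¹ * v⁻¹ = (a * (a⁻¹ * v * a) * a⁻¹ * (a⁻¹ * v * a)⁻¹)⁻¹ := by group
    rw [e]; exact inv_mem h1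

variable [Finite G]

/-- The situation of THEOREM NF. -/
structure Sit (S : Sylow 2 G) : Prop where
  hc : IsCharacteristicTwoType G
  hm : ¬ FF (S : Subgroup G)
  SY : (S : Subgroup G) ≤ YS (S : Subgroup G)
  cz : ∀ P : Subgroup G, IsParS (S : Subgroup G) P → zc (S : Subgroup G) ⊓ centralizer (P : Set G) = ⊥
  no : ∀ P : Subgroup G, IsParS (S : Subgroup G) P → (∃ A : Subgroup G, A ≤ P ∧ OffM (zl (S : Subgroup G) P) A) →
    NoOverM (zl (S : Subgroup G) P) P
  rp : ∀ P : Subgroup G, IsParS (S : Subgroup G) P → (∃ A : Subgroup G, A ≤ P ∧ OffM (zl (S : Subgroup G) P) A) →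
    RP (S : Subgroup G) P

/-- `A ≤ S` is optimal on `V*` and moves `V_P`. -/
structure Mv (S : Sylow 2 G) (P A : Subgroup G) : Prop where
  par : IsParS (S : Subgroup G) P
  le : A ≤ (S : Subgroup G)
  opt : Opt (VS (S : Subgroup G)) A
  ne : ¬ A ≤ centralizer (zl (S : Subgroup G) P : Set G)

variable {S : Sylow 2 G} {P P' A B : Subgroup G}

theorem Sit.comm (h : Sit S) : VS (S : Subgroup G) ≤ centralizer (VS (S : Subgroup G) : Set G) :=
  zl_comm h.hc h.hm

theorem Sit.sq (h : Sit S) : ∀ v ∈ VS (S : Subgroup G), v ^ 2 = 1 := zl_sq h.hc h.hm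

theorem line_le_VS (hP : IsParS (S : Subgroup G) P) : zl (S : Subgroup G) P ≤ VS (S : Subgroup G) :=
  zl_mono _ (le_YS hP)

theorem YS_norm : YS (S : Subgroup G) ≤ normalizer (VS (S : Subgroup G) : Set G) := le_normalizer_zl _ _

theorem par_norm (hP : IsParS (S : Subgroup G) P) : P ≤ normalizer (VS (S : Subgroup G) : Set G) :=
  (le_YS hP).trans YS_norm

theorem Sit.le_S (h : Sit S) : VS (S : Subgroup G) ≤ (S : Subgroup G) := by
  have h1 : VS (S : Subgroup G) ≤ o2 (YS (S : Subgroup G)) := by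
    refine Cfsg.Agent.MinSimple.VModule.le_o2 ?_ ?_ YS_norm
    · exact zl_le ((zc_le _).trans h.SY) le_normalizer
    · intro v
      refine ⟨1, ?_⟩
      have := h.sq v v.2
      exact Subtype.ext (by simpa using this)
  have h2 : (o2 (YS (S : Subgroup G))) ≤ (S : Subgroup G) :=
    Cfsg.Agent.Omega.MinPar.le_of_le_normalizer S (o2_isPGroup _) (h.SY.trans (le_normalizer_o2 _))
  exact h1.trans h2

theorem Sit.S_norm (h : Sit S) : (S : Subgroup G) ≤ normalizer (VS (S : Subgroup G) : Set G) :=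
  h.SY.trans YS_norm

section mv

variable (h : Sit S) (m : Mv S P A)
include h m

theorem Mv.exact : OffM (zl (S : Subgroup G) P) A ∧
    A ⊓ centralizer (zl (S : Subgroup G) P : Set G) ≤ centralizer (VS (S : Subgroup G) : Set G) ∧
    VS (S : Subgroup G) = zl (S : Subgroup G) P ⊔ (VS (S : Subgroup G) ⊓ centralizer (A : Set G)) ∧
    (centralizer (A : Set G)).relIndex (VS (S : Subgroup G)) =
      (centralizer (VS (S : Subgroup G) : Set G)).relIndex A :=
  m.opt.exact h.comm (line_le_VS m.par) m.ne (m.le.trans m.par.le) fun hoff =>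
    h.no P m.par ⟨A, m.le.trans m.par.le, hoff⟩

theorem Mv.rp : RP (S : Subgroup G) P := h.rp P m.par ⟨A, m.le.trans m.par.le, (m.exact h).1⟩

theorem Mv.ff_eq : ff (VS (S : Subgroup G)) A = Nat.card (VS (S : Subgroup G)) := by
  unfold ff
  rw [← (m.exact h).2.2.2]
  exact rel_mul_card _ _

/-- the order of the image of an optimal group -/
theorem Mv.rel_eq (hB : Opt (VS (S : Subgroup G)) B) :
    ff (VS (S : Subgroup G)) B = Nat.card (VS (S : Subgroup G)) ∧
      (centralizer (VS (S : Subgroup G) : Set G)).relIndex B =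
      (centralizer (VS (S : Subgroup G) : Set G)).relIndex A := by
  have h1 : ff (VS (S : Subgroup G)) B = ff (VS (S : Subgroup G)) A :=
    le_antisymm (m.opt.max B hB.toOk) (hB.max A m.opt.toOk)
  refine ⟨h1.trans (m.ff_eq h), le_antisymm ?_ ?_⟩
  · exact hB.min A m.opt.toOk m.opt.ne h1.symm
  · exact m.opt.min B hB.toOk hB.ne h1

omit m in
theorem rel_line {W C : Subgroup G} (hC : C ⊓ centralizer (W : Set G) ≤ centralizer (VS (S : Subgroup G) : Set G))
    (hW : W ≤ VS (S : Subgroup G)) :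
    (centralizer (W : Set G)).relIndex C = (centralizer (VS (S : Subgroup G) : Set G)).relIndex C := by
  have h1 : C ⊓ centralizer (W : Set G) = C ⊓ centralizer (VS (S : Subgroup G) : Set G) :=
    le_antisymm (le_inf inf_le_left hC) (inf_le_inf_left _ (centralizer_le hW))
  have e1 := inf_relIndex_left C (centralizer (W : Set G))
  have e2 := inf_relIndex_left C (centralizer (VS (S : Subgroup G) : Set G))
  rw [← e1, ← e2, h1]

theorem Mv.rel : (centralizer (zl (S : Subgroup G) P : Set G)).relIndex A =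
    (centralizer (VS (S : Subgroup G) : Set G)).relIndex A :=
  rel_line h (m.exact h).2.1 (line_le_VS m.par)

/-- `A` is a minimal offender on `V_P`. -/
theorem Mv.minOff : MinOffM (zl (S : Subgroup G) P) (S : Subgroup G) A := by
  obtain ⟨e1, e2, e3, e4⟩ := m.exact h
  refine ⟨m.le, e1, fun B hBA hB => ?_⟩
  have hBc : B ⊓ centralizer (zl (S : Subgroup G) P : Set G) ≤ centralizer (VS (S : Subgroup G) : Set G) :=
    (inf_le_inf_right _ hBA).trans e2
  rw [m.rel h, rel_line h hBc (line_le_VS m.par)]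
  set V := VS (S : Subgroup G) with hV
  set W := zl (S : Subgroup G) P with hW
  have hWV : W ≤ V := line_le_VS m.par
  have hBne : ¬ B ≤ centralizer (V : Set G) := fun h0 => hB.ne (h0.trans (centralizer_le hWV))
  refine m.opt.min B (m.opt.toOk.mono hBA) hBne ?_
  rw [m.ff_eq h]
  refine le_antisymm ((m.opt.max B (m.opt.toOk.mono hBA)).trans (m.ff_eq h).le) ?_
  -- `|V| ≤ ff V B`
  have hsup : V = W ⊔ (V ⊓ centralizer (B : Set G)) := by
    apply le_antisymm _ (sup_le hWV inf_le_left)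
    calc V = W ⊔ (V ⊓ centralizer (A : Set G)) := e3
      _ ≤ _ := sup_le_sup_left (inf_le_inf_left _ (centralizer_le hBA)) _
  have s1 := card_sup_mul h.comm hWV (inf_le_left : V ⊓ centralizer (B : Set G) ≤ V)
  rw [← hsup, ← inf_assoc, inf_eq_left.2 hWV] at s1
  have s2 := hB.le
  have hBV : B ⊓ centralizer (W : Set G) = B ⊓ centralizer (V : Set G) :=
    le_antisymm (le_inf inf_le_left hBc) (inf_le_inf_left _ (centralizer_le hWV))
  rw [hBV] at s2
  have r1 := rel_mul_card B (centralizer (V : Set G))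
  unfold ff
  set a := Nat.card V
  set b := Nat.card ↥(W ⊓ centralizer (B : Set G))
  set w := Nat.card W
  set n := Nat.card ↥(V ⊓ centralizer (B : Set G))
  set c := Nat.card ↥(B ⊓ centralizer (V : Set G))
  set rB := (centralizer (V : Set G)).relIndex B
  have pb : 0 < b := Nat.card_pos
  have pc : 0 < c := Nat.card_pos
  have : a * (b * c) ≤ (rB * n) * (b * c) := by
    calc a * (b * c) = (a * b) * c := by ring
      _ = (w * c) * n := by rw [s1]; ring
      _ ≤ (Nat.card B * b) * n := Nat.mul_le_mul_right _ s2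
      _ = (rB * n) * (b * c) := by rw [← r1]; ring
  exact Nat.le_of_mul_le_mul_right this (Nat.mul_pos pb pc)

/-- `[V, A] = [V_P, A]` -/
theorem Mv.comm_eq : ⁅VS (S : Subgroup G), A⁆ = ⁅zl (S : Subgroup G) P, A⁆ := by
  apply le_antisymm _ (commutator_mono (line_le_VS m.par) le_rfl)
  obtain ⟨e1, e2, e3, e4⟩ := m.exact h
  rw [commutator_le]
  intro v hv a ha
  rw [e3] at hv
  have hc : zl (S : Subgroup G) P ≤
      centralizer ((VS (S : Subgroup G) ⊓ centralizer (A : Set G) : Subgroup G) : Set G) :=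
    (line_le_VS m.par).trans (h.comm.trans (centralizer_le inf_le_left))
  obtain ⟨w, hw, c, hc, rfl⟩ := mem_sup_of_comm hc hv
  have h1 : a * c = c * a := (mem_centralizer_iff.1 hc.2 a ha)
  have e : ⁅w * c, a⁆ = ⁅w, a⁆ := by
    rw [commutatorElement_def, commutatorElement_def]
    have h2 : w * c * a * (w * c)⁻¹ * a⁻¹ = w * (c * a) * c⁻¹ * w⁻¹ * a⁻¹ := by group
    rw [h2, ← h1]; group
  rw [e]
  exact commutator_mem_commutator hw ha

theorem Mv.card_c : Nat.card ↥(⁅VS (S : Subgroup G), A⁆ : Subgroup G) =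
    (centralizer (VS (S : Subgroup G) : Set G)).relIndex A := by
  rw [m.comm_eq h, ← m.rel h]
  exact (m.rp h).card A (m.minOff h)

theorem Mv.pts_eq : pts (zl (S : Subgroup G) P) S A = {R | ∃ s ∈ (S : Subgroup G), R = cj s ⁅VS (S : Subgroup G), A⁆} := by
  unfold pts
  rw [m.comm_eq h]

omit m in
theorem line_norm (hP : IsParS (S : Subgroup G) P) : P ≤ normalizer (zl (S : Subgroup G) P : Set G) :=
  le_normalizer_zl _ _

/-- `LL` acts trivially on `V / V_P`. -/
theorem Mv.triv : LL P A ≤ KK (VS (S : Subgroup G)) (zl (S : Subgroup G) P) (line_le_VS m.par) := by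
  refine LL_le fun p hp => ?_
  rintro _ ⟨a, ha, rfl⟩
  have hap : a ∈ P := m.par.le (m.le ha)
  have hpap : p * a * p⁻¹ ∈ P := mul_mem (mul_mem hp hap) (inv_mem hp)
  refine ⟨par_norm m.par hpap, line_norm h m.par hpap, fun v hv => ?_⟩
  have hv' : p⁻¹ * v * p ∈ VS (S : Subgroup G) := (mem_normalizer_iff''.1 (par_norm m.par hp) v).1 hv
  have h1 : ⁅a, p⁻¹ * v * p⁆ ∈ ⁅VS (S : Subgroup G), A⁆ := by
    rw [commutator_comm]; exact commutator_mem_commutator ha hv'
  rw [m.comm_eq h] at h1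
  have h2 : ⁅zl (S : Subgroup G) P, A⁆ ≤ zl (S : Subgroup G) P := by
    rw [commutator_le]
    intro w hw b hb
    have hb' := (mem_normalizer_iff.1 (line_norm h m.par (m.par.le (m.le hb))) _).1 (inv_mem hw)
    have e : ⁅w, b⁆ = w * (b * w⁻¹ * b⁻¹) := by rw [commutatorElement_def]; group
    rw [e]; exact mul_mem hw hb'
  have h3 := (mem_normalizer_iff.1 (line_norm h m.par hp) _).1 (h2 h1)
  rw [commutatorElement_def] at h3
  change p * a * p⁻¹ * v * (p * a * p⁻¹)⁻¹ * v⁻¹ ∈ _
  have e : p * a * p⁻¹ * v * (p * a * p⁻¹)⁻¹ * v⁻¹ =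
      p * (a * (p⁻¹ * v * p) * a⁻¹ * (p⁻¹ * v * p)⁻¹) * p⁻¹ := by group
  rwa [e]

theorem Mv.sup_LL : LL P A ⊔ (S : Subgroup G) = P := by
  rcases m.par.toIsPar.sup_eq_or_inf_le S (LL_le_self (m.le.trans m.par.le)) (le_normalizer_LL P A) with h1 | h1
  · exact h1
  · exfalso
    apply m.ne
    have h2 : A ≤ o2 P := (le_inf m.le (le_LL P A)).trans h1
    rw [← m.par.inf_centralizer S h.hc] at h2
    exact h2.trans inf_le_right

omit m in
/-- a nontrivial `P`-invariant subgroup of `V` contains `V_P` -/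
theorem line_le_of_norm (hP : IsParS (S : Subgroup G) P) (hr : RP (S : Subgroup G) P) {D : Subgroup G}
    (hD : D ≤ VS (S : Subgroup G)) (hPD : P ≤ normalizer (D : Set G)) (hne : D ≠ ⊥) :
    zl (S : Subgroup G) P ≤ D := by
  obtain ⟨x, hx, hx1, hxS⟩ := NoFF.LinesPlug.exists_fixed S.isPGroup' (hD.trans h.le_S) (hP.le.trans hPD) hne
  have hxz : x ∈ zc (S : Subgroup G) := mem_zc.2 ⟨h.le_S (hD hx), fun s hs => hxS s hs, h.sq x (hD hx)⟩
  exact hr.irr x hxz hx1 D hPD hx

/-- `C_V(LL) = 1` -/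
theorem Mv.cent_LL : VS (S : Subgroup G) ⊓ centralizer (LL P A : Set G) = ⊥ := by
  by_contra hne
  have hn : (S : Subgroup G) ≤ normalizer
      ((VS (S : Subgroup G) ⊓ centralizer (LL P A : Set G) : Subgroup G) : Set G) := by
    intro s hs
    apply mem_normalizer_of_cj_le
    rw [cj_inf, cj_centralizer, cj_eq_of_mem_normalizer (h.S_norm hs),
      cj_eq_of_mem_normalizer (le_normalizer_LL P A (m.par.le hs))]
  obtain ⟨x, hx, hx1, hxS⟩ := NoFF.LinesPlug.exists_fixed S.isPGroup' (inf_le_left.trans h.le_S) hn hne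
  have hxz : x ∈ zc (S : Subgroup G) := mem_zc.2 ⟨h.le_S hx.1, fun s hs => hxS s hs, h.sq x hx.1⟩
  have hxP : x ∈ centralizer (P : Set G) := by
    have h1 : P ≤ centralizer ({x} : Set G) := by
      rw [← m.sup_LL h]
      refine sup_le (fun l hl => ?_) fun s hs => ?_
      · rw [mem_centralizer_singleton_iff]
        exact mem_centralizer_iff.1 hx.2 l hl
      · rw [mem_centralizer_singleton_iff]
        exact hxS s hs
    rw [mem_centralizer_iff]
    intro p hp
    exact mem_centralizer_singleton_iff.1 (h1 hp)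
  have := h.cz P m.par
  exact hx1 (by
    have h2 : x ∈ zc (S : Subgroup G) ⊓ centralizer (P : Set G) := ⟨hxz, hxP⟩
    rwa [this, mem_bot] at h2)

end mv

/-! ### (3) -/

/-- A product of two commuting-like subgroups, one normalising the other. -/
theorem exists_mul_of_sup {A B : Subgroup G} (h : A ≤ normalizer (B : Set G)) {x : G} (hx : x ∈ A ⊔ B) :
    ∃ a ∈ A, ∃ b ∈ B, x = a * b := by
  have h1 : x ∈ ((A ⊔ B : Subgroup G) : Set G) := hx
  rw [coe_mul_of_left_le_normalizer_right A B h] at h1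
  obtain ⟨a, ha, b, hb, hab⟩ := h1
  exact ⟨a, ha, b, hb, hab.symm⟩

/-- A 2-element of `P` which centralises `V_P` is in `O₂(P)`. -/
theorem mem_o2_of_two (h : Sit S) (hP : IsParS (S : Subgroup G) P) {c : G} (hc : c ∈ P)
    (hcc : c ∈ centralizer (zl (S : Subgroup G) P : Set G)) {k : ℕ} (hk : c ^ 2 ^ k = 1) : c ∈ o2 P := by
  have hz : IsPGroup 2 (zpowers c) := by
    rw [IsPGroup.iff_card, Nat.card_zpowers]
    obtain ⟨j, -, hj⟩ := (Nat.dvd_prime_pow Nat.prime_two).1 (orderOf_dvd_of_pow_eq_one hk)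
    exact ⟨j, hj⟩
  obtain ⟨n, hn, hnS⟩ := FFThm.exists_conj_le S hP.le hz ((zpowers_le).2 hc)
  have h1 : n * c * n⁻¹ ∈ (S : Subgroup G) := hnS ⟨c, mem_zpowers c, rfl⟩
  have h2 : n * c * n⁻¹ ∈ centralizer (zl (S : Subgroup G) P : Set G) := by
    rw [mem_centralizer_iff] at hcc ⊢
    intro v hv
    have h3 := hcc _ ((mem_normalizer_iff''.1 (le_normalizer_zl (S : Subgroup G) P hn) v).1 hv)
    have e1 : v * (n * c * n⁻¹) = n * ((n⁻¹ * v * n) * c) * n⁻¹ := by group
    have e2 : n * c * n⁻¹ * v = n * (c * (n⁻¹ * v * n)) * n⁻¹ := by group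
    rw [e1, e2, h3]
  have h3 : n * c * n⁻¹ ∈ o2 P := by
    rw [← hP.inf_centralizer S h.hc]; exact ⟨h1, h2⟩
  exact (mem_normalizer_iff.1 (le_normalizer_o2 P hn) c).2 h3

/-- `c² , c^m ∈ H`, `m` odd, gives `c ∈ H` -/
theorem mem_of_odd {H : Subgroup G} {c : G} {m : ℕ} (hm : Odd m) (h2 : c ^ 2 ∈ H) (h1 : c ^ m ∈ H) : c ∈ H := by
  obtain ⟨j, rfl⟩ := hm
  have h3 : (c ^ 2) ^ j ∈ H := pow_mem h2 j
  have h4 : c = c ^ (2 * j + 1) * ((c ^ 2) ^ j)⁻¹ := by
    rw [← pow_mul, pow_succ']; group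
  rw [h4]
  exact mul_mem h1 (inv_mem h3)

/-- `|N| ≤ q^{|X|} |N ∩ ⋂ C_x|` -/
theorem card_le_of_finset {N : Subgroup G} {q : ℕ} (C : G → Subgroup G) (X : Finset G)
    (h : ∀ x ∈ X, (C x).relIndex N ≤ q) :
    Nat.card N ≤ q ^ X.card * Nat.card ↥(N ⊓ ⨅ x ∈ X, C x) := by
  have key : (⨅ x ∈ X, C x).relIndex N ≤ q ^ X.card := by
    classical
    induction X using Finset.induction_on with
    | empty => simp
    | @insert a X ha ih =>
      rw [Finset.iInf_insert, Finset.card_insert_of_notMem ha, pow_succ']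
      refine relIndex_inf_le.trans (Nat.mul_le_mul (h a (Finset.mem_insert_self _ _)) ?_)
      exact ih fun x hx => h x (Finset.mem_insert_of_mem hx)
  calc Nat.card N = (⨅ x ∈ X, C x).relIndex N * Nat.card ↥(N ⊓ ⨅ x ∈ X, C x) := (rel_mul_card _ _).symm
    _ ≤ _ := Nat.mul_le_mul_right _ key

section three

variable (h : Sit S) (m : Mv S P A)
include h m

/-- Case `[V_{P'}, O₂(P)] = 1`. -/
theorem Mv.line_le_of_comm (hP' : IsParS (S : Subgroup G) P')
    (hc : o2 P ≤ centralizer (zl (S : Subgroup G) P' : Set G)) :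
    zl (S : Subgroup G) P' ≤ zl (S : Subgroup G) P := by
  set V := VS (S : Subgroup G) with hV
  set W := zl (S : Subgroup G) P with hW
  set W' := zl (S : Subgroup G) P' with hW'
  set N := W ⊔ W' with hN
  have hWV : W ≤ V := line_le_VS m.par
  have hWV' : W' ≤ V := line_le_VS hP'
  have hNV : N ≤ V := sup_le hWV hWV'
  have htriv := m.triv h
  -- `P` normalises `N`
  have hPN : P ≤ normalizer (N : Set G) := by
    rw [← m.sup_LL h]
    refine sup_le (fun l hl => ?_) fun s hs => ?_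
    · refine mem_normalizer_of_cj_le ?_
      rintro _ ⟨n, hn, rfl⟩
      have h1 := (htriv hl).2.2 n (hNV hn)
      have e : (MulAut.conj l).toMonoidHom n = (l * n * l⁻¹ * n⁻¹) * n := by
        change l * n * l⁻¹ = _; group
      rw [e]
      exact mul_mem ((le_sup_left : W ≤ N) h1) hn
    · apply mem_normalizer_of_cj_le
      rw [hN]
      change (W ⊔ W').map _ ≤ _
      rw [Subgroup.map_sup]
      refine sup_le_sup (le_of_eq (cj_eq_of_mem_normalizer ?_)) (le_of_eq (cj_eq_of_mem_normalizer ?_))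
      · exact line_norm h m.par (m.par.le hs)
      · exact line_norm h hP' (hP'.le hs)
  have hQN : o2 P ≤ centralizer (N : Set G) := by
    rw [hN]
    have h1 : o2 P ≤ centralizer (W : Set G) := by
      rw [← m.par.inf_centralizer S h.hc]; exact inf_le_right
    exact cent_symm (sup_le (cent_symm h1) (cent_symm hc))
  obtain ⟨X, hXP, hXc, hXb, hXg⟩ := (m.rp h).gen A (m.minOff h)
  rw [m.rel h] at hXc
  set q := (centralizer (V : Set G)).relIndex A with hq
  -- the indices
  have hidx : ∀ x ∈ X, (centralizer ((cj x A : Subgroup G) : Set G)).relIndex N ≤ q := by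
    intro x hx
    have hxN : cj x N = N := cj_eq_of_mem_normalizer (hPN (hXP x hx))
    have h1 : (centralizer ((cj x A : Subgroup G) : Set G)).relIndex N = (centralizer (A : Set G)).relIndex N := by
      conv_lhs => rw [← hxN, ← cj_centralizer]
      exact relIndex_map_map_of_injective _ _ (MulAut.conj x).injective
    rw [h1, hq, ← (m.exact h).2.2.2]
    exact relIndex_le_of_le_right hNV fun h0 => by
      have h2 := rel_mul_card V (centralizer (A : Set G))
      rw [h0, zero_mul] at h2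
      exact (Nat.card_pos (α := V)).ne h2
  have hcard := card_le_of_finset (N := N) (fun x => centralizer ((cj x A : Subgroup G) : Set G)) X hidx
  -- the common fixed points are fixed by `LL`
  have hfix : N ⊓ (⨅ x ∈ X, centralizer ((cj x A : Subgroup G) : Set G)) ≤ centralizer (LL P A : Set G) := by
    intro n hn
    have hnN : n ∈ N := hn.1
    have hnX : ∀ x ∈ X, n ∈ centralizer ((cj x A : Subgroup G) : Set G) := by
      intro x hx
      exact mem_iInf.1 (mem_iInf.1 hn.2 x) hx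
    have h0 : (⨆ x ∈ X, cj x A) ≤ centralizer ({n} : Set G) := by
      refine iSup₂_le fun x hx l hl => ?_
      rw [mem_centralizer_singleton_iff]
      exact mem_centralizer_iff.1 (hnX x hx) l hl
    have h0P : (⨆ x ∈ X, cj x A) ≤ LL P A := iSup₂_le fun x hx => cj_le_LL (hXP x hx)
    have hLP : LL P A ≤ P := LL_le_self (m.le.trans m.par.le)
    have hCn : P ≤ normalizer ((P ⊓ centralizer (W : Set G) : Subgroup G) : Set G) := by
      intro p hp
      apply mem_normalizer_of_cj_le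
      rw [cj_inf, cj_centralizer, cj_eq_of_mem_normalizer (le_normalizer hp),
        cj_eq_of_mem_normalizer (line_norm h m.par hp)]
    have h3 : LL P A ≤ centralizer ({n} : Set G) := by
      refine LL_le fun p hp l hl => ?_
      have hlL : l ∈ LL P A := cj_le_LL hp hl
      obtain ⟨a, ha, c, hcc, hlac⟩ := exists_mul_of_sup ((h0P.trans hLP).trans hCn) (hXg p hp hl)
      have hcL : c ∈ LL P A := by
        have e : c = a⁻¹ * l := by rw [hlac]; group
        rw [e]
        exact mul_mem (inv_mem (h0P ha)) hlL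
      -- `c` centralises `n`
      have hcn : c ∈ centralizer ({n} : Set G) := by
        have hw := (htriv hcL).2.2 n (hNV hnN)
        have hcw := mem_centralizer_iff.1 hcc.2 _ hw
        -- `c²`
        have hc2 : c ^ 2 ∈ centralizer ({n} : Set G) := by
          rw [mem_centralizer_singleton_iff]
          have hsq : (c * n * c⁻¹ * n⁻¹) ^ 2 = 1 := h.sq _ (hWV hw)
          have e1 : c ^ 2 * n * (c ^ 2)⁻¹ * n⁻¹ =
              (c * (c * n * c⁻¹ * n⁻¹) * c⁻¹) * (c * n * c⁻¹ * n⁻¹) := by rw [pow_two]; group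
          have e2 : c * (c * n * c⁻¹ * n⁻¹) * c⁻¹ = c * n * c⁻¹ * n⁻¹ := by
            rw [← hcw]; group
          rw [e2, ← pow_two, hsq] at e1
          have e3 : c ^ 2 * n = (c ^ 2 * n * (c ^ 2)⁻¹ * n⁻¹) * (n * c ^ 2) := by group
          rw [e3, e1, one_mul]
        -- the 2-part
        obtain ⟨k, j, hj, hkj⟩ := Nat.exists_eq_two_pow_mul_odd (orderOf_pos c).ne'
        have hcj : c ^ j ∈ centralizer ({n} : Set G) := by
          have h4 : (c ^ j) ^ 2 ^ k = 1 := by
            rw [← pow_mul, mul_comm, ← hkj, pow_orderOf_eq_one]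
          have h5 : c ^ j ∈ o2 P := mem_o2_of_two h m.par (pow_mem hcc.1 j) (pow_mem hcc.2 j) h4
          rw [mem_centralizer_singleton_iff]
          exact (mem_centralizer_iff.1 (hQN h5) n hnN).symm
        exact mem_of_odd hj hc2 hcj
      rw [hlac]
      exact mul_mem (h0 ha) hcn
    rw [mem_centralizer_iff]
    intro l hl
    exact mem_centralizer_singleton_iff.1 (h3 hl)
  have hbot : N ⊓ (⨅ x ∈ X, centralizer ((cj x A : Subgroup G) : Set G)) = ⊥ := by
    rw [eq_bot_iff, ← m.cent_LL h]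
    exact le_inf (inf_le_left.trans hNV) hfix
  rw [hbot, card_bot, mul_one] at hcard
  have hNW : W = N := Subgroup.eq_of_le_of_card_ge le_sup_left (hcard.trans hXc)
  rw [hNW]
  exact le_sup_right

/-- **(3)** `V_{P'} ≤ V_P`. -/
theorem Mv.le_line (hP' : IsParS (S : Subgroup G) P') : zl (S : Subgroup G) P' ≤ zl (S : Subgroup G) P := by
  by_cases hc : o2 P ≤ centralizer (zl (S : Subgroup G) P' : Set G)
  · exact m.line_le_of_comm h hP' hc
  set V := VS (S : Subgroup G) with hV
  set W := zl (S : Subgroup G) P with hW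
  set W' := zl (S : Subgroup G) P' with hW'
  set N := W ⊔ W' with hN
  have hWV : W ≤ V := line_le_VS m.par
  have hWV' : W' ≤ V := line_le_VS hP'
  have hNV : N ≤ V := sup_le hWV hWV'
  have htriv := m.triv h
  have hPN : P ≤ normalizer (N : Set G) := by
    rw [← m.sup_LL h]
    refine sup_le (fun l hl => ?_) fun s hs => ?_
    · refine mem_normalizer_of_cj_le ?_
      rintro _ ⟨n, hn, rfl⟩
      have h1 := (htriv hl).2.2 n (hNV hn)
      have e : (MulAut.conj l).toMonoidHom n = (l * n * l⁻¹ * n⁻¹) * n := by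
        change l * n * l⁻¹ = _; group
      rw [e]
      exact mul_mem ((le_sup_left : W ≤ N) h1) hn
    · apply mem_normalizer_of_cj_le
      rw [hN]
      change (W ⊔ W').map _ ≤ _
      rw [Subgroup.map_sup]
      refine sup_le_sup (le_of_eq (cj_eq_of_mem_normalizer ?_)) (le_of_eq (cj_eq_of_mem_normalizer ?_))
      · exact line_norm h m.par (m.par.le hs)
      · exact line_norm h hP' (hP'.le hs)
  have hQS : o2 P ≤ (S : Subgroup G) := m.par.isLoc.o2_le S
  have hQW : o2 P ≤ centralizer (W : Set G) := by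
    rw [← m.par.inf_centralizer S h.hc]; exact inf_le_right
  have hD : ⁅N, o2 P⁆ ≤ W' := by
    rw [commutator_le]
    intro n hn g hg
    obtain ⟨w, hw, w', hw', rfl⟩ := mem_sup_of_comm (hWV.trans (h.comm.trans (centralizer_le hWV'))) hn
    have h1 : g * w = w * g := (mem_centralizer_iff.1 (hQW hg) w hw).symm
    have h2 : g * w'⁻¹ * g⁻¹ ∈ W' :=
      (mem_normalizer_iff.1 (line_norm h hP' (hP'.le (hQS hg))) _).1 (inv_mem hw')
    have h3 : w' * (g * w'⁻¹ * g⁻¹) ∈ W' := mul_mem hw' h2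
    have h4 : w * (w' * (g * w'⁻¹ * g⁻¹)) = w' * (g * w'⁻¹ * g⁻¹) * w :=
      (mem_centralizer_iff.1 (h.comm (hWV hw)) _ (hWV' h3)).symm
    have e : ⁅w * w', g⁆ = w' * (g * w'⁻¹ * g⁻¹) := by
      rw [commutatorElement_def]
      have h5 : g * w⁻¹ = w⁻¹ * g := by
        rw [eq_inv_mul_iff_mul_eq, ← mul_assoc, ← h1, mul_inv_cancel_right]
      calc w * w' * g * (w * w')⁻¹ * g⁻¹ = w * (w' * g * w'⁻¹) * w⁻¹ * g⁻¹ := by group
        _ = w * (w' * (g * w'⁻¹ * g⁻¹)) * (g * w⁻¹) * g⁻¹ := by group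
        _ = w' * (g * w'⁻¹ * g⁻¹) * w * (w⁻¹ * g) * g⁻¹ := by rw [h4, h5]
        _ = _ := by group
    rw [e]
    exact h3
  have hDn : P ≤ normalizer ((⁅N, o2 P⁆ : Subgroup G) : Set G) := by
    intro p hp
    apply mem_normalizer_of_cj_le
    change (⁅N, o2 P⁆ : Subgroup G).map _ ≤ _
    rw [Subgroup.map_commutator]
    exact commutator_mono (le_of_eq (cj_eq_of_mem_normalizer (hPN hp)))
      (le_of_eq (cj_eq_of_mem_normalizer (le_normalizer_o2 P hp)))
  have hDne : (⁅N, o2 P⁆ : Subgroup G) ≠ ⊥ := by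
    intro h0
    apply hc
    have h1 := commutator_eq_bot_iff_le_centralizer.1 h0
    exact cent_symm (le_sup_right.trans h1)
  have hWW' : W ≤ W' :=
    (line_le_of_norm h m.par (m.rp h) (hD.trans hWV') hDn hDne).trans hD
  -- `A` moves `V_{P'}` too
  have m' : Mv S P' A := ⟨hP', m.le, m.opt, fun h0 => m.ne (h0.trans (centralizer_le hWW'))⟩
  have c1 := (m.rp h).cardV A (m.minOff h)
  have c2 := (m'.rp h).cardV A (m'.minOff h)
  rw [m.pts_eq h, ← m.comm_eq h] at c1
  rw [m'.pts_eq h, ← m'.comm_eq h] at c2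
  exact le_of_eq (Subgroup.eq_of_le_of_card_ge hWW' (by rw [← hW, ← hW'] at *; rw [c1, c2])).symm

end three

/-! ### (4) -/

/-- Some `⟨P*(S)⟩`-conjugate in `S` of an optimal `B ≤ S` moves some `V_P`. -/
theorem exists_mv (h : Sit S) (hB : Opt (VS (S : Subgroup G)) B) (hBS : B ≤ (S : Subgroup G)) :
    ∃ y ∈ YS (S : Subgroup G), ∃ P, Mv S P (cj y B) := by
  by_contra hcon
  push Not at hcon
  have hall : ∀ y ∈ YS (S : Subgroup G), cj y B ≤ (S : Subgroup G) → ∀ P, IsParS (S : Subgroup G) P →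
      cj y B ≤ centralizer (zl (S : Subgroup G) P : Set G) := by
    intro y hy hyS P hP
    by_contra hne
    exact hcon y hy P ⟨hP, hyS, hB.cj (YS_norm hy), hne⟩
  have key : ∀ y ∈ YS (S : Subgroup G), y ∈ YS (S : Subgroup G) ∧
      ∀ w ∈ YS (S : Subgroup G), cj w B ≤ (S : Subgroup G) → cj (y * w) B ≤ (S : Subgroup G) := by
    intro y hy
    have hy' : y ∈ ⨆ P : {P : Subgroup G // IsParS (S : Subgroup G) P}, (P : Subgroup G) := by
      unfold YS at hy
      rwa [sSup_eq_iSup'] at hy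
    refine Subgroup.iSup_induction (S := fun P : {P : Subgroup G // IsParS (S : Subgroup G) P} => (P : Subgroup G))
      (C := fun y => y ∈ YS (S : Subgroup G) ∧
        ∀ w ∈ YS (S : Subgroup G), cj w B ≤ (S : Subgroup G) → cj (y * w) B ≤ (S : Subgroup G)) hy' ?_ ?_ ?_
    · rintro ⟨P, hP⟩ p hp
      refine ⟨le_YS hP hp, fun w hw hwS => ?_⟩
      rw [← cj_cj]
      have h1 : cj w B ≤ o2 P := by
        rw [← hP.inf_centralizer S h.hc]
        exact le_inf hwS (hall w hw hwS P hP)
      have h2 := cj_mono p h1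
      rw [cj_eq_of_mem_normalizer (le_normalizer_o2 P hp)] at h2
      exact h2.trans (hP.isLoc.o2_le S)
    · exact ⟨one_mem _, fun w _ hw => by rwa [one_mul]⟩
    · rintro x y ⟨hx1, hx2⟩ ⟨hy1, hy2⟩
      refine ⟨mul_mem hx1 hy1, fun w hw hwS => ?_⟩
      rw [mul_assoc]
      exact hx2 _ (mul_mem hy1 hw) (hy2 w hw hwS)
  apply hB.ne
  refine cent_symm ?_
  change zl (S : Subgroup G) (YS S) ≤ _
  refine iSup_le fun y => ?_
  have h1 := (key _ (inv_mem y.2)).2 1 (one_mem _) (by rwa [cj_one])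
  rw [mul_one] at h1
  have h2 : B ≤ cj (y : G) (S : Subgroup G) := by
    have h3 := cj_mono (y : G) h1
    rwa [cj_cj_inv] at h3
  exact cent_symm (h2.trans (cj_cent (g := (y : G)) (le_centralizer_zc _)))

omit [Finite G] in
/-- A group which acts trivially on `f` and on `V / f` acts on `V` as an elementary abelian 2-group. -/
theorem elemM_of_le {V f E : Subgroup G} (hsq : ∀ v ∈ V, v ^ 2 = 1) (hVc : V ≤ centralizer (V : Set G))
    (hfV : f ≤ V) (hE : E ≤ KK V f hfV ⊓ centralizer (f : Set G)) : ElemM V E := by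
  refine ⟨fun e he => ?_, fun a ha b hb => ?_⟩
  · have ht := hE he
    rw [mem_centralizer_iff]
    intro v hv
    set u := e * v * e⁻¹ * v⁻¹ with hu
    have huf : u ∈ f := ht.1.2.2 v hv
    have heu : u * e = e * u := mem_centralizer_iff.1 ht.2 u huf
    have hu2 : u * u = 1 := by
      have := hsq u (hfV huf); rwa [pow_two] at this
    have e1 : e * v = u * v * e := by rw [hu]; group
    have e2 : e ^ 2 * v = u * u * v * e ^ 2 := by
      calc e ^ 2 * v = e * (e * v) := by rw [pow_two]; group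
        _ = (e * u) * (v * e) := by rw [e1]; group
        _ = u * (e * v) * e := by rw [← heu]; group
        _ = u * u * v * e ^ 2 := by rw [e1, pow_two]; group
    rw [e2, hu2, one_mul]
  · have hta := hE ha
    have htb := hE hb
    have key : ∀ v ∈ V, a * b * v * (a * b)⁻¹ = b * a * v * (b * a)⁻¹ := by
      intro v hv
      set u := a * v * a⁻¹ * v⁻¹ with hu
      set w := b * v * b⁻¹ * v⁻¹ with hw
      have huf : u ∈ f := hta.1.2.2 v hv
      have hwf : w ∈ f := htb.1.2.2 v hv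
      have hbu : u * b = b * u := mem_centralizer_iff.1 htb.2 u huf
      have haw : w * a = a * w := mem_centralizer_iff.1 hta.2 w hwf
      have huw : u * w = w * u := mem_centralizer_iff.1 (hVc (hfV hwf)) u (hfV huf)
      have e1 : a * v = u * v * a := by rw [hu]; group
      have e2 : b * v = w * v * b := by rw [hw]; group
      have e3 : a * b * v = (u * w) * v * (a * b) := by
        calc a * b * v = a * (b * v) := by group
          _ = (a * w) * (v * b) := by rw [e2]; group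
          _ = w * (a * v) * b := by rw [← haw]; group
          _ = (w * u) * v * (a * b) := by rw [e1]; group
          _ = _ := by rw [huw]
      have e4 : b * a * v = (u * w) * v * (b * a) := by
        calc b * a * v = b * (a * v) := by group
          _ = (b * u) * (v * a) := by rw [e1]; group
          _ = u * (b * v) * a := by rw [← hbu]; group
          _ = (u * w) * v * (b * a) := by rw [e2]; group
      rw [e3, e4]; group
    rw [mem_centralizer_iff]
    intro v hv
    have hx := key _ ((mem_normalizer_iff''.1 (mul_mem htb.1.1 hta.1.1) v).1 hv)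
    have e5 : a * b * a⁻¹ * b⁻¹ * v =
        (a * b * ((b * a)⁻¹ * v * (b * a)) * (a * b)⁻¹) * (a * b * a⁻¹ * b⁻¹) := by group
    rw [e5, hx]; group

section four

variable (h : Sit S) (m : Mv S P A)
include h m

/-- Two moved lines are equal. -/
theorem Mv.line_eq (m' : Mv S P' B) : zl (S : Subgroup G) P' = zl (S : Subgroup G) P :=
  le_antisymm (m.le_line h m'.par) (m'.le_line h m.par)

/-- the commutator group of an optimal group: order and quadratic action -/
theorem Mv.opt_facts (hB : Opt (VS (S : Subgroup G)) B) (hBS : B ≤ (S : Subgroup G)) :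
    Nat.card ↥(⁅VS (S : Subgroup G), B⁆ : Subgroup G) =
      (centralizer (VS (S : Subgroup G) : Set G)).relIndex A ∧
    ⁅VS (S : Subgroup G), B⁆ ≤ VS (S : Subgroup G) ⊓ centralizer (B : Set G) := by
  obtain ⟨y, hy, P', m'⟩ := exists_mv h hB hBS
  have hyV : cj y (VS (S : Subgroup G)) = VS (S : Subgroup G) := cj_eq_of_mem_normalizer (YS_norm hy)
  have hcj : ⁅VS (S : Subgroup G), cj y B⁆ = cj y ⁅VS (S : Subgroup G), B⁆ := by
    conv_lhs => rw [← hyV]
    exact (Subgroup.map_commutator _ _ _).symm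
  constructor
  · have h1 := m'.card_c h
    rw [hcj, card_cj, rel_cj (YS_norm hy)] at h1
    rw [h1]
    exact (m.rel_eq h hB).2
  · have h1 := (m'.rp h).cent _ _ (m'.minOff h) (m'.minOff h) 1 (one_mem _)
    rw [cj_one, ← m'.comm_eq h, hcj, ← cj_centralizer] at h1
    have h2 : ⁅VS (S : Subgroup G), B⁆ ≤ centralizer (B : Set G) := by
      have h3 := cj_mono y⁻¹ h1
      rwa [cj_inv_cj, cj_inv_cj] at h3
    refine le_inf ?_ h2
    rw [commutator_le]
    intro v hv b hb
    have h3 := (mem_normalizer_iff.1 (hB.norm hb) _).1 (inv_mem hv)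
    have e : ⁅v, b⁆ = v * (b * v⁻¹ * b⁻¹) := by rw [commutatorElement_def]; group
    rw [e]; exact mul_mem hv h3

/-- `[w, A^p] = [V, A]^p` -/
theorem Mv.surj_cj {p : G} (hp : p ∈ P) {w : G} (hw : w ∈ zl (S : Subgroup G) P)
    (hne : w ∉ centralizer ((cj p A : Subgroup G) : Set G)) {c : Subgroup G} (hwc : w ∈ c)
    (hc : cj p A ≤ normalizer (c : Set G)) : cj p ⁅VS (S : Subgroup G), A⁆ ≤ c := by
  rintro _ ⟨x, hx, rfl⟩
  change p * x * p⁻¹ ∈ c
  have hx' : x ∈ ⁅zl (S : Subgroup G) P, A⁆ := by rw [← m.comm_eq h]; exact hx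
  have hw' : p⁻¹ * w * p ∈ zl (S : Subgroup G) P := (mem_normalizer_iff''.1 (line_norm h m.par hp) w).1 hw
  have hne' : p⁻¹ * w * p ∉ centralizer (A : Set G) := by
    rw [← cj_centralizer, mem_cj] at hne
    exact hne
  obtain ⟨a, ha, hax⟩ := (m.rp h).surj A (m.minOff h) _ hw' hne' x hx'
  have e : p * x * p⁻¹ = (p * a * p⁻¹) * w * (p * a * p⁻¹)⁻¹ * w⁻¹ := by
    rw [← hax]; group
  rw [e]
  have h1 : p * a * p⁻¹ ∈ cj p A := ⟨a, ha, rfl⟩
  exact mul_mem ((mem_normalizer_iff.1 (hc h1) w).1 hwc) (inv_mem hwc)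

/-- **(4)** No optimal `B ≤ S` centralises `V_P`. -/
theorem Mv.ne_cent (hB : Opt (VS (S : Subgroup G)) B) (hBS : B ≤ (S : Subgroup G)) :
    ¬ B ≤ centralizer (zl (S : Subgroup G) P : Set G) := by
  intro hBW
  set V := VS (S : Subgroup G) with hV
  set W := zl (S : Subgroup G) P with hW
  have hWV : W ≤ V := line_le_VS m.par
  have hSV := h.S_norm
  have htriv := m.triv h
  obtain ⟨hcard, hquad⟩ := m.opt_facts h hB hBS
  obtain ⟨hffB, hrelB⟩ := m.rel_eq h hB
  set f := V ⊓ centralizer (B : Set G) with hf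
  have hWf : W ≤ f := le_inf hWV (cent_symm hBW)
  have hBo : B ≤ o2 P := by
    rw [← m.par.inf_centralizer S h.hc]; exact le_inf hBS hBW
  have hLP : LL P A ≤ P := LL_le_self (m.le.trans m.par.le)
  -- `LL` normalises `[V, B]`
  have hL : ∀ l ∈ LL P A, cj l ⁅V, B⁆ ≤ ⁅V, B⁆ := by
    intro l hl
    have hlV : l ∈ normalizer (V : Set G) := (htriv hl).1
    have hlV' : cj l V = V := cj_eq_of_mem_normalizer hlV
    have hlf : l ∈ normalizer (f : Set G) := by
      apply mem_normalizer_of_cj_le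
      rintro _ ⟨v, hv, rfl⟩
      have h1 := (htriv hl).2.2 v hv.1
      have e : (MulAut.conj l).toMonoidHom v = (l * v * l⁻¹ * v⁻¹) * v := by
        change l * v * l⁻¹ = _; group
      rw [e]
      exact mul_mem (hWf h1) hv
    have hlB : cj l B ≤ (S : Subgroup G) := by
      have h2 := cj_mono l hBo
      rw [cj_eq_of_mem_normalizer (le_normalizer_o2 P (hLP hl))] at h2
      exact h2.trans (m.par.isLoc.o2_le S)
    have hfV : f ≤ V := inf_le_left
    -- the group acting trivially on `f` and `V / f`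
    set T := KK V f hfV ⊓ centralizer (f : Set G) with hT
    have hBT : B ≤ T := by
      refine le_inf (fun b hb => ?_) (cent_symm inf_le_right)
      have hbV := hB.norm hb
      refine ⟨hbV, ?_, fun v hv => ?_⟩
      · have hbB : b ∈ normalizer (centralizer (B : Set G) : Set G) := by
          apply mem_normalizer_of_cj_le
          rw [cj_centralizer, cj_eq_of_mem_normalizer (le_normalizer hb)]
        apply mem_normalizer_of_cj_le
        rw [hf, cj_inf, cj_eq_of_mem_normalizer hbV, cj_eq_of_mem_normalizer hbB]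
      · apply hquad
        have h3 := commutator_mem_commutator hb hv
        rw [commutator_comm, commutatorElement_def] at h3
        exact h3
    have hlT : cj l T ≤ T := by
      rintro _ ⟨t, ht, rfl⟩
      change l * t * l⁻¹ ∈ T
      refine ⟨⟨mul_mem (mul_mem hlV ht.1.1) (inv_mem hlV), mul_mem (mul_mem hlf ht.1.2.1) (inv_mem hlf),
        fun v hv => ?_⟩, ?_⟩
      · have h3 := ht.1.2.2 _ ((mem_normalizer_iff''.1 hlV v).1 hv)
        have h4 := (mem_normalizer_iff.1 hlf _).1 h3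
        have e : l * t * l⁻¹ * v * (l * t * l⁻¹)⁻¹ * v⁻¹ =
          l * (t * (l⁻¹ * v * l) * t⁻¹ * (l⁻¹ * v * l)⁻¹) * l⁻¹ := by group
        rwa [e]
      · change l * t * l⁻¹ ∈ centralizer (f : Set G)
        rw [mem_centralizer_iff]
        intro v hv
        have h3 := mem_centralizer_iff.1 ht.2 _ ((mem_normalizer_iff''.1 hlf v).1 hv)
        have e1 : v * (l * t * l⁻¹) = l * ((l⁻¹ * v * l) * t) * l⁻¹ := by group
        have e2 : l * t * l⁻¹ * v = l * (t * (l⁻¹ * v * l)) * l⁻¹ := by group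
        rw [e1, e2, h3]
    set E := B ⊔ cj l B with hE
    have hET : E ≤ T := sup_le hBT ((cj_mono l hBT).trans hlT)
    have hES : E ≤ (S : Subgroup G) := sup_le hBS hlB
    have hEok : Ok V E := ⟨elemM_of_le h.sq h.comm hfV hET, S.isPGroup'.to_le hES, hES.trans hSV⟩
    -- counting
    have hmax := m.opt.max E hEok
    rw [m.ff_eq h] at hmax
    have hfE : f ≤ V ⊓ centralizer (E : Set G) := le_inf hfV (cent_symm (hET.trans inf_le_right))
    have hrelE : (centralizer (V : Set G)).relIndex E ≤ (centralizer (V : Set G)).relIndex B := by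
      have h1 := Subgroup.card_le_of_le hfE
      have h2 : 0 < Nat.card f := Nat.card_pos
      have h3 : (centralizer (V : Set G)).relIndex E * Nat.card f ≤
          (centralizer (V : Set G)).relIndex B * Nat.card f := by
        calc _ ≤ (centralizer (V : Set G)).relIndex E * Nat.card ↥(V ⊓ centralizer (E : Set G)) :=
              Nat.mul_le_mul_left _ h1
          _ ≤ Nat.card V := hmax
          _ = _ := hffB.symm
      exact Nat.le_of_mul_le_mul_right h3 h2
    have hEB : E ≤ B ⊔ (E ⊓ centralizer (V : Set G)) := by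
      set D := E ⊓ centralizer (V : Set G) with hD
      have hBD : B ⊔ D ≤ E := sup_le le_sup_left inf_le_left
      refine (Subgroup.eq_of_le_of_card_ge hBD ?_).ge
      have r1 := rel_mul_card E (centralizer (V : Set G))
      have r2 := rel_mul_card (B ⊔ D) (centralizer (V : Set G))
      have r3 : (centralizer (V : Set G)).relIndex B ≤ (centralizer (V : Set G)).relIndex (B ⊔ D) :=
        relIndex_le_of_le_right le_sup_left fun h0 => by
          rw [h0, zero_mul] at r2
          exact (Nat.card_pos (α := ↥(B ⊔ D : Subgroup G))).ne r2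
      have r4 : E ⊓ centralizer (V : Set G) ≤ (B ⊔ D) ⊓ centralizer (V : Set G) :=
        le_inf le_sup_right inf_le_right
      rw [← r1, ← r2]
      exact Nat.mul_le_mul (hrelE.trans r3) (Subgroup.card_le_of_le r4)
    have hD : B ≤ normalizer ((E ⊓ centralizer (V : Set G) : Subgroup G) : Set G) := by
      intro b hb
      apply mem_normalizer_of_cj_le
      rw [cj_inf, cj_centralizer, cj_eq_of_mem_normalizer (le_normalizer ((le_sup_left : B ≤ E) hb)),
        cj_eq_of_mem_normalizer (hB.norm hb)]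
    have h5 : cj l ⁅V, B⁆ = ⁅V, cj l B⁆ := by
      conv_rhs => rw [← hlV']
      exact Subgroup.map_commutator _ _ _
    rw [h5, commutator_le]
    intro v hv x hx
    obtain ⟨b, hb, c, hc, rfl⟩ := exists_mul_of_sup hD (hEB ((le_sup_right : cj l B ≤ E) hx))
    have hcv : v * c = c * v := mem_centralizer_iff.1 hc.2 v hv
    have e : ⁅v, b * c⁆ = ⁅v, b⁆ := by
      rw [commutatorElement_def, commutatorElement_def]
      have h6 : c * v⁻¹ = v⁻¹ * c := by
        rw [eq_inv_mul_iff_mul_eq, ← mul_assoc, hcv, mul_inv_cancel_right]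
      calc v * (b * c) * v⁻¹ * (b * c)⁻¹ = v * b * (c * v⁻¹) * c⁻¹ * b⁻¹ := by group
        _ = v * b * (v⁻¹ * c) * c⁻¹ * b⁻¹ := by rw [h6]
        _ = _ := by group
    rw [e]
    exact commutator_mem_commutator hv hb
  have hcV : ⁅V, B⁆ ≤ V := hquad.trans inf_le_left
  have hLn : LL P A ≤ normalizer ((⁅V, B⁆ : Subgroup G) : Set G) := fun l hl => mem_normalizer_of_cj_le (hL l hl)
  -- a nontrivial element of `[V, B] ∩ V_P`
  have hcne : (⁅V, B⁆ : Subgroup G) ≠ ⊥ := by
    intro h0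
    exact hB.ne (cent_symm (commutator_eq_bot_iff_le_centralizer.1 h0))
  have hmove : ∀ u ∈ V, u ≠ 1 → ∃ p ∈ P, u ∉ centralizer ((cj p A : Subgroup G) : Set G) := by
    intro u hu hu1
    by_contra hcon
    push Not at hcon
    have h1 : u ∈ V ⊓ centralizer (LL P A : Set G) := by
      refine ⟨hu, ?_⟩
      have h2 : LL P A ≤ centralizer ({u} : Set G) := by
        refine LL_le fun p hp l hl => ?_
        rw [mem_centralizer_singleton_iff]
        exact mem_centralizer_iff.1 (hcon p hp) l hl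
      change u ∈ centralizer (LL P A : Set G)
      rw [mem_centralizer_iff]
      intro l hl
      exact mem_centralizer_singleton_iff.1 (h2 hl)
    rw [m.cent_LL h, mem_bot] at h1
    exact hu1 h1
  obtain ⟨v, hv, hv1⟩ := (Subgroup.ne_bot_iff_exists_ne_one.1 hcne).imp fun a ha => (⟨a.2, ha⟩ : _ ∧ _)
  obtain ⟨v, hv'⟩ := v
  have hv1' : v ≠ 1 := fun h0 => hv1 (Subtype.ext h0)
  obtain ⟨p, hp, hpv⟩ := hmove v (hcV hv') hv1'
  obtain ⟨l, hl, hlv⟩ : ∃ l ∈ cj p A, ¬ l * v = v * l := by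
    by_contra hcon
    push Not at hcon
    exact hpv (mem_centralizer_iff.2 hcon)
  have hlL : l ∈ LL P A := cj_le_LL hp hl
  set w := l * v * l⁻¹ * v⁻¹ with hw
  have hwc : w ∈ ⁅V, B⁆ := mul_mem ((mem_normalizer_iff.1 (hLn hlL) v).1 hv') (inv_mem hv')
  have hwW : w ∈ W := (htriv hlL).2.2 v (hcV hv')
  have hw1 : w ≠ 1 := by
    intro h0
    apply hlv
    have e : l * v = (l * v * l⁻¹ * v⁻¹) * (v * l) := by group
    rw [e, ← hw, h0, one_mul]
  -- first point
  have hqpos : 1 < Nat.card ↥(⁅V, B⁆ : Subgroup G) := by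
    rw [Subgroup.one_lt_card_iff_ne_bot]; exact hcne
  have hcA : Nat.card ↥(⁅V, A⁆ : Subgroup G) = Nat.card ↥(⁅V, B⁆ : Subgroup G) := by
    rw [hcard]; exact m.card_c h
  obtain ⟨p1, hp1, hm1⟩ := hmove w (hWV hwW) hw1
  have hr1 : cj p1 ⁅V, A⁆ = ⁅V, B⁆ := by
    refine Subgroup.eq_of_le_of_card_ge
      (m.surj_cj h hp1 hwW hm1 hwc ((cj_le_LL hp1).trans hLn)) ?_
    rw [card_cj]; exact hcA.ge
  have hwA : w ∈ centralizer ((cj p1 A : Subgroup G) : Set G) := by
    have h1 := (m.rp h).cent _ _ (m.minOff h) (m.minOff h) 1 (one_mem _)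
    rw [cj_one, ← m.comm_eq h] at h1
    have h2 := cj_mono p1 h1
    rw [cj_centralizer] at h2
    apply h2
    change w ∈ cj p1 ⁅V, A⁆
    rw [hr1]; exact hwc
  exact hm1 hwA

end four

end Cfsg.Agent.Omega.NOThreeL.NF
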