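import Cfsg.Agent.Mrg.Omega.NOThreeL.Star
import Cfsg.Agent.Mrg.Omega.FrameI

section


/-!
# THEOREM NF (#17343), piece (N): the interface `RP` for natural modules

`W` is the direct sum of `k` natural `SL₂(F)`-modules (`NatKM F S P W ⊥ k`).

* `Ac M g A` : `g` acts on `W` as `A ∈ SL₂(F)^k`;
* `ln M J` : the vectors of `W` with second coordinates 0 and support in `J`;
* `Rt M i A` : `A ≤ S` acts on `W` as the full root group of the `i`-th factor; `Rt.of` : a minimal offender is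
  such a group;
* `rp_of_natKM` : `RP S P`.
-/

set_option autoImplicit false

namespace Cfsg.Agent.Omega.NOThreeL.NF

open Subgroup Cfsg Cfsg.Agent.ZN Cfsg.Agent.ZN.ChoiceBase Cfsg.Agent.Omega.MinPar
open Cfsg.Agent.Omega.FFThm (ElemM OffM NoOverM ConclM NatKM ActsSL relIndex_le_iff)
open Cfsg.Agent.Omega.NatPair (ap ap_mul ap_one ap_inv_ap ap_zero' ap_one' ext2 exists_ap)
open Cfsg.Agent.Omega.NO3b.EZero (cent_symm)
open Cfsg.Agent.Lib.SL2Mat
open scoped commutatorElement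

universe u

namespace NatR

variable {G : Type u} [Group G] {F : Type} [Field F] {S P W : Subgroup G} {k : ℕ}

/-- `g` acts on `W` as `A ∈ SL₂(F)^k`. -/
def Ac (M : NatKM F S P W ⊥ k) (g : G) (A : Fin k → Matrix.SpecialLinearGroup (Fin 2) F) : Prop :=
  ∀ v ∈ W, ∀ i, M.e (g * v * g⁻¹) i = ap (A i) (M.e v i)

section basic

variable {M : NatKM F S P W ⊥ k}

theorem e_one : M.e 1 = 0 := by
  have h := M.mul 1 (one_mem _) 1 (one_mem _)
  rw [one_mul] at h
  exact left_eq_add.1 h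

theorem e_inv {v : G} (hv : v ∈ W) : M.e v⁻¹ = - M.e v := by
  have h := M.mul v hv v⁻¹ (inv_mem hv)
  rw [mul_inv_cancel, e_one] at h
  exact (neg_eq_of_add_eq_zero_right h.symm).symm

theorem e_inj {v w : G} (hv : v ∈ W) (hw : w ∈ W) (h : M.e v = M.e w) : v = w := by
  have h1 := M.mul v hv w⁻¹ (inv_mem hw)
  rw [e_inv hw, h, add_neg_cancel] at h1
  have h2 := (M.ker _ (mul_mem hv (inv_mem hw))).1 h1
  exact mul_inv_eq_one.1 (mem_bot.1 h2)

theorem comm (M : NatKM F S P W ⊥ k) {v w : G} (hv : v ∈ W) (hw : w ∈ W) : v * w = w * v :=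
  e_inj (M := M) (mul_mem hv hw) (mul_mem hw hv) (by rw [M.mul v hv w hw, M.mul w hw v hv, add_comm])

theorem Ac.actsSL {g : G} {A : Fin k → Matrix.SpecialLinearGroup (Fin 2) F} (h : Ac M g A) :
    ActsSL M.e W ⊥ g A :=
  ⟨h, fun d hd => by rw [mem_bot.1 hd, mul_one, one_mul]⟩

variable (hPW : P ≤ normalizer (W : Set G))
include hPW

theorem cmem {g v : G} (hg : g ∈ P) (hv : v ∈ W) : g * v * g⁻¹ ∈ W := (mem_normalizer_iff.1 (hPW hg) v).1 hv

theorem Ac.mul {g h : G} {A B : Fin k → Matrix.SpecialLinearGroup (Fin 2) F} (hh : h ∈ P) (h1 : Ac M g A)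
    (h2 : Ac M h B) : Ac M (g * h) (A * B) := by
  intro v hv i
  have e1 : g * h * v * (g * h)⁻¹ = g * (h * v * h⁻¹) * g⁻¹ := by group
  rw [e1, h1 _ (cmem hPW hh hv), h2 v hv, Pi.mul_apply, ap_mul]

theorem Ac.inv {g : G} {A : Fin k → Matrix.SpecialLinearGroup (Fin 2) F} (hg : g ∈ P) (h1 : Ac M g A) :
    Ac M g⁻¹ A⁻¹ := by
  intro v hv i
  have h2 := h1 _ (cmem hPW (inv_mem hg) hv) i
  have e1 : g * (g⁻¹ * v * g⁻¹⁻¹) * g⁻¹ = v := by group
  rw [e1] at h2
  rw [h2, Pi.inv_apply, ap_inv_ap]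

omit hPW in
theorem ac_one {g : G} (hg : g ∈ centralizer (W : Set G)) : Ac M g 1 := by
  intro v hv i
  have e1 : g * v * g⁻¹ = v := by
    have := mem_centralizer_iff.1 hg v hv
    rw [← this]; group
  rw [e1, Pi.one_apply, ap_one]

theorem cent_of_ac {g : G} (hg : g ∈ P) (h : Ac M g 1) : g ∈ centralizer (W : Set G) := by
  refine mem_centralizer_iff.2 fun v hv => ?_
  have h1 : g * v * g⁻¹ = v := by
    refine e_inj (M := M) (cmem hPW hg hv) hv ?_
    funext i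
    rw [h v hv i, Pi.one_apply, ap_one]
  rw [← mul_inv_eq_iff_eq_mul.1 h1]

end basic

/-! ### The lines -/

/-- The vectors of `W` with second coordinates 0 and support in `J`. -/
def ln (M : NatKM F S P W ⊥ k) (J : Set (Fin k)) : Subgroup G where
  carrier := {v | v ∈ W ∧ (∀ j, M.e v j 1 = 0) ∧ ∀ j, j ∉ J → M.e v j = 0}
  mul_mem' := by
    rintro a b ⟨ha, ha1, ha2⟩ ⟨hb, hb1, hb2⟩
    refine ⟨mul_mem ha hb, fun j => ?_, fun j hj => ?_⟩
    · rw [M.mul a ha b hb, Pi.add_apply, Pi.add_apply, ha1, hb1, add_zero]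
    · rw [M.mul a ha b hb, Pi.add_apply, ha2 j hj, hb2 j hj, add_zero]
  one_mem' := by
    refine ⟨one_mem _, fun j => ?_, fun j _ => ?_⟩
    · rw [e_one]; rfl
    · rw [e_one]; rfl
  inv_mem' := by
    rintro a ⟨ha, ha1, ha2⟩
    refine ⟨inv_mem ha, fun j => ?_, fun j hj => ?_⟩
    · rw [e_inv ha, Pi.neg_apply, Pi.neg_apply, ha1, neg_zero]
    · rw [e_inv ha, Pi.neg_apply, ha2 j hj, neg_zero]

section lines

variable {M : NatKM F S P W ⊥ k}

theorem mem_ln {J : Set (Fin k)} {v : G} :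
    v ∈ ln M J ↔ v ∈ W ∧ (∀ j, M.e v j 1 = 0) ∧ ∀ j, j ∉ J → M.e v j = 0 := Iff.rfl

theorem ln_mono {I J : Set (Fin k)} (h : I ⊆ J) : ln M I ≤ ln M J :=
  fun _ hv => ⟨hv.1, hv.2.1, fun j hj => hv.2.2 j fun hi => hj (h hi)⟩

theorem ln_le (J : Set (Fin k)) : ln M J ≤ W := fun _ hv => hv.1

theorem mem_sSup_ln {J : Set (Fin k)} (s : Finset (Fin k)) : ∀ v ∈ ln M J, (∀ j, j ∉ s → M.e v j = 0) →
    v ∈ sSup ((fun i => ln M {i}) '' J) := by
  classical
  induction s using Finset.induction_on with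
  | empty =>
    intro v hv h0
    have : v = 1 := e_inj (M := M) hv.1 (one_mem _) (by
      rw [e_one]; funext j; exact h0 j (Finset.notMem_empty j))
    rw [this]; exact one_mem _
  | insert a s has ih =>
    intro v hv h0
    by_cases haJ : a ∈ J
    · obtain ⟨w, hw, hew⟩ := M.surj (Pi.single a (M.e v a))
      have hw1 : w ∈ ln M {a} := by
        refine ⟨hw, fun j => ?_, fun j hj => ?_⟩
        · rw [hew]
          by_cases hj : j = a
          · subst hj; rw [Pi.single_eq_same]; exact hv.2.1 j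
          · rw [Pi.single_eq_of_ne hj]; rfl
        · rw [hew]; exact Pi.single_eq_of_ne hj _
      have hw2 : w ∈ ln M J := ln_mono (Set.singleton_subset_iff.2 haJ) hw1
      have h1 := ih (v * w⁻¹) (mul_mem hv (inv_mem hw2)) (fun j hj => by
        rw [M.mul v hv.1 _ (inv_mem hw), e_inv hw, hew, Pi.add_apply, Pi.neg_apply]
        by_cases hja : j = a
        · subst hja; rw [Pi.single_eq_same, add_neg_cancel]
        · rw [Pi.single_eq_of_ne hja, neg_zero, add_zero]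
          exact h0 j fun h => (Finset.mem_insert.1 h).elim hja hj)
      have h2 : w ∈ sSup ((fun i => ln M {i}) '' J) :=
        (le_sSup (Set.mem_image_of_mem (fun i => ln M {i}) haJ) : ln M {a} ≤ _) hw1
      have h3 := mul_mem h1 h2
      rwa [inv_mul_cancel_right] at h3
    · refine ih v hv fun j hj => ?_
      by_cases hja : j = a
      · subst hja; exact hv.2.2 j haJ
      · exact h0 j fun h => (Finset.mem_insert.1 h).elim hja hj

theorem sSup_ln (J : Set (Fin k)) : sSup ((fun i => ln M {i}) '' J) = ln M J := by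
  refine le_antisymm (sSup_le ?_) fun v hv => mem_sSup_ln Finset.univ v hv fun j hj => absurd (Finset.mem_univ j) hj
  rintro _ ⟨i, hi, rfl⟩
  exact ln_mono (Set.singleton_subset_iff.2 hi)

theorem exists_ln (i : Fin k) (x : F) : ∃ v ∈ ln M {i}, M.e v i 0 = x := by
  classical
  obtain ⟨v, hv, hev⟩ := M.surj (Pi.single i ![x, 0])
  refine ⟨v, ⟨hv, fun j => ?_, fun j hj => ?_⟩, ?_⟩
  · rw [hev]
    by_cases hj : j = i
    · subst hj; rw [Pi.single_eq_same]; rfl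
    · rw [Pi.single_eq_of_ne hj]; rfl
  · rw [hev]; exact Pi.single_eq_of_ne hj _
  · rw [hev, Pi.single_eq_same]; rfl

theorem ln_ext {i : Fin k} {v w : G} (hv : v ∈ ln M {i}) (hw : w ∈ ln M {i}) (h : M.e v i 0 = M.e w i 0) :
    v = w := by
  refine e_inj (M := M) hv.1 hw.1 ?_
  funext j
  by_cases hj : j = i
  · subst hj; exact ext2 h (by rw [hv.2.1, hw.2.1])
  · rw [hv.2.2 j hj, hw.2.2 j hj]

theorem card_ln (i : Fin k) : Nat.card (ln M {i}) = Nat.card F :=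
  Nat.card_congr (Equiv.ofBijective (fun v : ln M {i} => M.e (v : G) i 0)
    ⟨fun v w h => Subtype.ext (ln_ext v.2 w.2 h), fun x => by
      obtain ⟨v, hv, h⟩ := exists_ln (M := M) i x
      exact ⟨⟨v, hv⟩, h⟩⟩)

theorem ln_injective : Function.Injective fun i : Fin k => ln M {i} := by
  intro i j h
  by_contra hij
  obtain ⟨v, hv, hx⟩ := exists_ln (M := M) i 1
  have hv' : v ∈ ln M {j} := by
    have h' : ln M {i} = ln M {j} := h
    rwa [← h']
  have h0 := hv'.2.2 i hij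
  rw [h0] at hx
  exact zero_ne_one hx

theorem card_W (M : NatKM F S P W ⊥ k) : Nat.card W = Nat.card F ^ (2 * k) := by
  have h1 : Nat.card W = Nat.card (Fin k → Fin 2 → F) :=
    Nat.card_congr (Equiv.ofBijective (fun v : W => M.e (v : G))
      ⟨fun v w h => Subtype.ext (e_inj (M := M) v.2 w.2 h), fun x => by
        obtain ⟨v, hv, h⟩ := M.surj x
        exact ⟨⟨v, hv⟩, h⟩⟩)
  rw [h1, Nat.card_fun, Nat.card_fun, Nat.card_fin, Nat.card_fin, ← pow_mul]

/-- A vector supported exactly at `i`. -/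
theorem exists_pt (i : Fin k) (x : Fin 2 → F) : ∃ v ∈ W, M.e v i = x ∧ ∀ j, j ≠ i → M.e v j = 0 := by
  classical
  obtain ⟨v, hv, hev⟩ := M.surj (Pi.single i x)
  exact ⟨v, hv, by rw [hev, Pi.single_eq_same], fun j hj => by rw [hev]; exact Pi.single_eq_of_ne hj _⟩

end lines

/-! ### The elements of `S` -/

section perm

variable {M : NatKM F S P W ⊥ k}

/-- An element of `S` permutes the summands and the lines in them. -/
theorem exists_perm (hSP : S ≤ P) {t : G} (ht : t ∈ S) : ∃ σ : Equiv.Perm (Fin k),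
    (∀ v ∈ W, ∀ i, M.e (t * v * t⁻¹) (σ i) = 0 ↔ M.e v i = 0) ∧
      ∀ v ∈ W, ∀ i, M.e (t * v * t⁻¹) (σ i) 1 = 0 ↔ M.e v i 1 = 0 := by
  obtain ⟨σ, hσ⟩ := M.perm t (hSP ht)
  obtain ⟨τ, hτ⟩ := M.line t ht
  refine ⟨σ, hσ, ?_⟩
  have h : σ = τ := by
    ext1 i
    obtain ⟨v, hv, hvi, hvj⟩ := exists_pt (M := M) i ![0, 1]
    by_contra hne
    have h1 : M.e (t * v * t⁻¹) (τ i) 1 ≠ 0 := by
      intro h0
      have := (hτ v hv i).1 h0
      rw [hvi] at this
      exact one_ne_zero this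
    apply h1
    have h2 : M.e (t * v * t⁻¹) (σ (σ.symm (τ i))) = 0 := by
      exact (hσ v hv _).2 (hvj _ fun h3 => hne ((Equiv.symm_apply_eq σ).1 h3).symm)
    rw [Equiv.apply_symm_apply] at h2
    rw [h2]; rfl
  rw [h]; exact hτ

theorem cj_ln_le (hPW : P ≤ normalizer (W : Set G)) (hSP : S ≤ P) {t : G} (ht : t ∈ S)
    {σ : Equiv.Perm (Fin k)} (h1 : ∀ v ∈ W, ∀ i, M.e (t * v * t⁻¹) (σ i) = 0 ↔ M.e v i = 0)
    (h2 : ∀ v ∈ W, ∀ i, M.e (t * v * t⁻¹) (σ i) 1 = 0 ↔ M.e v i 1 = 0) (i : Fin k) :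
    cj t (ln M {i}) = ln M {σ i} := by
  have hle : cj t (ln M {i}) ≤ ln M {σ i} := by
    rintro _ ⟨v, hv, rfl⟩
    change t * v * t⁻¹ ∈ _
    refine ⟨cmem hPW (hSP ht) hv.1, fun j => ?_, fun j hj => ?_⟩
    · obtain ⟨j, rfl⟩ := σ.surjective j
      exact (h2 v hv.1 j).2 (hv.2.1 j)
    · obtain ⟨j, rfl⟩ := σ.surjective j
      exact (h1 v hv.1 j).2 (hv.2.2 j fun h => hj (congrArg σ h))
  refine le_antisymm hle fun w hw => ?_
  rw [mem_cj]
  have hw' : t⁻¹ * w * t ∈ W := by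
    have := cmem hPW (inv_mem (hSP ht)) hw.1
    rwa [inv_inv] at this
  have e1 : t * (t⁻¹ * w * t) * t⁻¹ = w := by group
  refine ⟨hw', fun j => ?_, fun j hj => ?_⟩
  · refine (h2 _ hw' j).1 ?_
    rw [e1]; exact hw.2.1 _
  · refine (h1 _ hw' j).1 ?_
    rw [e1]
    exact hw.2.2 _ fun h => hj (σ.injective h)

/-- `S` is transitive on the lines. -/
theorem exists_cj_ln (hPW : P ≤ normalizer (W : Set G)) (hSP : S ≤ P) (i j : Fin k) :
    ∃ t ∈ S, cj t (ln M {i}) = ln M {j} := by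
  obtain ⟨t, ht, h⟩ := M.trans i j
  obtain ⟨σ, h1, h2⟩ := exists_perm (M := M) hSP ht
  refine ⟨t, ht, ?_⟩
  rw [cj_ln_le hPW hSP ht h1 h2 i]
  congr 2
  by_contra hne
  obtain ⟨v, hv, hvi, hvj⟩ := exists_pt (M := M) i ![0, 1]
  have h3 : M.e v i ≠ 0 := by
    rw [hvi]
    intro h0
    exact one_ne_zero (congrFun h0 1)
  refine h3 ((h v hv).1 ?_)
  obtain ⟨j', rfl⟩ := σ.surjective j
  exact (h1 v hv j').2 (hvj j' fun h4 => hne (by rw [h4]))

theorem exists_cj_ln' (hPW : P ≤ normalizer (W : Set G)) (hSP : S ≤ P) {t : G} (ht : t ∈ S) (i : Fin k) :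
    ∃ j, cj t (ln M {i}) = ln M {j} := by
  obtain ⟨σ, h1, h2⟩ := exists_perm (M := M) hSP ht
  exact ⟨σ i, cj_ln_le hPW hSP ht h1 h2 i⟩

end perm

/-! ### Root groups -/

theorem ap_up (c : F) (x : Fin 2 → F) : ap (up c) x = ![x 0 + c * x 1, x 1] := by
  apply ext2
  · rw [ap_zero', up_00, up_01]; simp
  · rw [ap_one', up_10, up_11]; simp

theorem ap_lo (c : F) (x : Fin 2 → F) : ap (lo c) x = ![x 0, c * x 0 + x 1] := by
  apply ext2
  · rw [ap_zero', lo_00, lo_01]; simp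
  · rw [ap_one', lo_10, lo_11]; simp

/-- `A` acts on `W` as the full root group of the `i`-th factor. -/
structure Rt (M : NatKM F S P W ⊥ k) (i : Fin k) (A : Subgroup G) : Prop where
  le : A ≤ S
  acts : ∀ a ∈ A, ∃ c : F, Ac M a (Pi.mulSingle i (up c))
  ex : ∀ c : F, ∃ a ∈ A, Ac M a (Pi.mulSingle i (up c))

section root

variable {M : NatKM F S P W ⊥ k} {i : Fin k} {A : Subgroup G}

theorem ac_at {a v : G} {c : F} (h : Ac M a (Pi.mulSingle i (up c))) (hv : v ∈ W) :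
    M.e (a * v * a⁻¹) i = ![M.e v i 0 + c * M.e v i 1, M.e v i 1] := by
  rw [h v hv i, Pi.mulSingle_eq_same, ap_up]

theorem ac_ne {a v : G} {c : F} (h : Ac M a (Pi.mulSingle i (up c))) (hv : v ∈ W) {j : Fin k} (hj : j ≠ i) :
    M.e (a * v * a⁻¹) j = M.e v j := by
  rw [h v hv j, Pi.mulSingle_eq_of_ne hj, ap_one]

theorem mulSingle_mul (c d : F) : (Pi.mulSingle i (up c) : Fin k → Matrix.SpecialLinearGroup (Fin 2) F) *
    Pi.mulSingle i (up d) = Pi.mulSingle i (up (c + d)) := by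
  rw [← Pi.mulSingle_mul, up_mul]

theorem mulSingle_inv (c : F) : (Pi.mulSingle i (up c) : Fin k → Matrix.SpecialLinearGroup (Fin 2) F)⁻¹ =
    Pi.mulSingle i (up (-c)) := by
  rw [← Pi.mulSingle_inv, up_inv]

theorem mulSingle_zero : (Pi.mulSingle i (up 0) : Fin k → Matrix.SpecialLinearGroup (Fin 2) F) = 1 := by
  rw [up_zero, Pi.mulSingle_one]

variable (hPW : P ≤ normalizer (W : Set G)) (hSP : S ≤ P)
include hPW hSP

/-- a root group centralises the vectors with second coordinate 0 at `i` -/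
theorem Rt.fix (h : Rt M i A) {v : G} (hv : v ∈ W) (h0 : M.e v i 1 = 0) : v ∈ centralizer (A : Set G) := by
  refine mem_centralizer_iff.2 fun a ha => ?_
  obtain ⟨c, hc⟩ := h.acts a ha
  have h1 : a * v * a⁻¹ = v := by
    refine e_inj (M := M) (cmem hPW (hSP (h.le ha)) hv) hv ?_
    funext j
    by_cases hj : j = i
    · subst hj
      rw [ac_at hc hv]
      exact ext2 (by rw [h0]; simp) rfl
    · exact ac_ne hc hv hj
  exact mul_inv_eq_iff_eq_mul.1 h1

omit hPW hSP in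
theorem Rt.zero_of_cent (h : Rt M i A) {v : G} (hv : v ∈ W) (hc : v ∈ centralizer (A : Set G)) :
    M.e v i 1 = 0 := by
  obtain ⟨a, ha, hac⟩ := h.ex 1
  have h1 : a * v * a⁻¹ = v := by
    rw [mem_centralizer_iff.1 hc a ha]; group
  have h2 := ac_at hac hv
  rw [h1] at h2
  have h3 := congrFun h2 0
  simp only [Matrix.cons_val_zero, one_mul] at h3
  exact left_eq_add.1 h3

theorem Rt.comm_eq (h : Rt M i A) : ⁅W, A⁆ = ln M {i} := by
  refine le_antisymm (commutator_le.2 fun v hv a ha => ?_) fun w hw => ?_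
  · obtain ⟨c, hc⟩ := h.acts a ha
    have hm := cmem hPW (hSP (h.le ha)) (inv_mem hv)
    have e1 : ⁅v, a⁆ = v * (a * v⁻¹ * a⁻¹) := by rw [commutatorElement_def]; group
    rw [e1]
    refine ⟨mul_mem hv hm, fun j => ?_, fun j hj => ?_⟩
    · rw [M.mul v hv _ hm, Pi.add_apply, Pi.add_apply]
      by_cases hj : j = i
      · subst hj
        rw [ac_at hc (inv_mem hv), e_inv hv]
        simp
      · rw [ac_ne hc (inv_mem hv) hj, e_inv hv, Pi.neg_apply, Pi.neg_apply, add_neg_cancel]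
    · rw [M.mul v hv _ hm, Pi.add_apply, ac_ne hc (inv_mem hv) hj, e_inv hv, Pi.neg_apply, add_neg_cancel]
  · obtain ⟨v, hv, hvi, hvj⟩ := exists_pt (M := M) i ![0, 1]
    obtain ⟨a, ha, hac⟩ := h.ex (M.e w i 0)
    have hm := cmem hPW (hSP (h.le ha)) (inv_mem hv)
    have e1 : ⁅v, a⁆ = v * (a * v⁻¹ * a⁻¹) := by rw [commutatorElement_def]; group
    have h1 : w⁻¹ = ⁅v, a⁆ := by
      rw [e1]
      refine e_inj (M := M) (inv_mem hw.1) (mul_mem hv hm) ?_
      funext j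
      rw [M.mul v hv _ hm, Pi.add_apply, e_inv hw.1]
      by_cases hj : j = i
      · subst hj
        rw [ac_at hac (inv_mem hv), e_inv hv, Pi.neg_apply, Pi.neg_apply, Pi.neg_apply, hvi]
        exact ext2 (by simp) (by simp [hw.2.1])
      · rw [ac_ne hac (inv_mem hv) hj, e_inv hv, Pi.neg_apply, Pi.neg_apply, add_neg_cancel, hw.2.2 j hj, neg_zero]
    have h2 : w⁻¹ ∈ ⁅W, A⁆ := by rw [h1]; exact commutator_mem_commutator hv ha
    exact inv_mem_iff.1 h2

/-- `A / C_A(W)` has order `|F|`. -/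
theorem Rt.relIndex (h : Rt M i A) : (centralizer (W : Set G)).relIndex A = Nat.card F := by
  obtain ⟨v, hv, hvi, hvj⟩ := exists_pt (M := M) i ![0, 1]
  have hval : ∀ a ∈ A, ∀ c, Ac M a (Pi.mulSingle i (up c)) → M.e (a * v * a⁻¹) i 0 = c := by
    intro a _ c hc
    rw [ac_at hc hv, hvi]; simp
  let φ : A →* Multiplicative F :=
    { toFun := fun a => Multiplicative.ofAdd (M.e ((a : G) * v * (a : G)⁻¹) i 0)
      map_one' := by
        change Multiplicative.ofAdd (M.e ((1 : G) * v * (1 : G)⁻¹) i 0) = 1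
        rw [one_mul, inv_one, mul_one, hvi]; rfl
      map_mul' := by
        rintro ⟨a, ha⟩ ⟨b, hb⟩
        obtain ⟨c, hc⟩ := h.acts a ha
        obtain ⟨d, hd⟩ := h.acts b hb
        have hab := Ac.mul hPW (hSP (h.le hb)) hc hd
        rw [mulSingle_mul] at hab
        change Multiplicative.ofAdd (M.e ((a * b) * v * (a * b)⁻¹) i 0) =
          Multiplicative.ofAdd (M.e (a * v * a⁻¹) i 0) * Multiplicative.ofAdd (M.e (b * v * b⁻¹) i 0)
        rw [hval _ (mul_mem ha hb) _ hab, hval a ha c hc, hval b hb d hd, ofAdd_add] }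
  have hker : (centralizer (W : Set G)).subgroupOf A = φ.ker := by
    ext ⟨a, ha⟩
    rw [mem_subgroupOf, MonoidHom.mem_ker]
    obtain ⟨c, hc⟩ := h.acts a ha
    have hφ : φ ⟨a, ha⟩ = Multiplicative.ofAdd c := by
      change Multiplicative.ofAdd (M.e (a * v * a⁻¹) i 0) = _
      rw [hval a ha c hc]
    rw [hφ]
    constructor
    · intro hcen
      have h1 : a * v * a⁻¹ = v := by
        have := mem_centralizer_iff.1 hcen v hv
        change v * a = a * v at this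
        rw [← this]; group
      have h2 := hval a ha c hc
      rw [h1, hvi] at h2
      rw [← h2]; rfl
    · intro h0
      have h1 : c = 0 := Multiplicative.ofAdd.injective h0
      rw [h1, mulSingle_zero] at hc
      exact cent_of_ac hPW (hSP (h.le ha)) hc
  unfold Subgroup.relIndex
  rw [hker, index_ker]
  have hr : φ.range = ⊤ := by
    rw [MonoidHom.range_eq_top]
    intro c
    obtain ⟨a, ha, hac⟩ := h.ex (Multiplicative.toAdd c)
    refine ⟨⟨a, ha⟩, ?_⟩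
    change Multiplicative.ofAdd (M.e (a * v * a⁻¹) i 0) = _
    rw [hval a ha _ hac]; rfl
  rw [hr, Nat.card_congr (topEquiv (G := Multiplicative F)).toEquiv]
  rfl

/-- `W / C_W(A)` has order `|F|`. -/
theorem Rt.relIndex' (h : Rt M i A) : (centralizer (A : Set G)).relIndex W = Nat.card F := by
  let ψ : W →* Multiplicative F :=
    { toFun := fun v => Multiplicative.ofAdd (M.e (v : G) i 1)
      map_one' := by
        change Multiplicative.ofAdd (M.e (1 : G) i 1) = 1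
        rw [e_one]; rfl
      map_mul' := by
        rintro ⟨v, hv⟩ ⟨w, hw⟩
        change Multiplicative.ofAdd (M.e (v * w) i 1) = _
        rw [M.mul v hv w hw]; rfl }
  have hker : (centralizer (A : Set G)).subgroupOf W = ψ.ker := by
    ext ⟨v, hv⟩
    rw [mem_subgroupOf, MonoidHom.mem_ker]
    constructor
    · intro hc
      change Multiplicative.ofAdd (M.e v i 1) = 1
      rw [h.zero_of_cent hv hc]; rfl
    · intro h0
      exact h.fix hPW hSP hv (Multiplicative.ofAdd.injective h0)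
  unfold Subgroup.relIndex
  rw [hker, index_ker]
  have hr : ψ.range = ⊤ := by
    rw [MonoidHom.range_eq_top]
    intro c
    obtain ⟨v, hv, hvi, -⟩ := exists_pt (M := M) i ![0, Multiplicative.toAdd c]
    refine ⟨⟨v, hv⟩, ?_⟩
    change Multiplicative.ofAdd (M.e v i 1) = _
    rw [hvi]; rfl
  rw [hr, Nat.card_congr (topEquiv (G := Multiplicative F)).toEquiv]
  rfl

/-- A root group is an offender. -/
theorem Rt.offM [Finite G] [CharP F 2] (h : Rt M i A) : OffM W A where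
  sq a ha := by
    obtain ⟨c, hc⟩ := h.acts a ha
    have h1 := Ac.mul hPW (hSP (h.le ha)) hc hc
    rw [mulSingle_mul, CharTwo.add_self_eq_zero, mulSingle_zero] at h1
    rw [pow_two]
    exact cent_of_ac hPW (mul_mem (hSP (h.le ha)) (hSP (h.le ha))) h1
  comm a ha b hb := by
    obtain ⟨c, hc⟩ := h.acts a ha
    obtain ⟨d, hd⟩ := h.acts b hb
    have pa := hSP (h.le ha)
    have pb := hSP (h.le hb)
    have h1 := Ac.mul hPW (inv_mem pb) (Ac.mul hPW (inv_mem pa) (Ac.mul hPW pb hc hd) (hc.inv hPW pa))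
      (hd.inv hPW pb)
    rw [mulSingle_inv, mulSingle_inv, mulSingle_mul, mulSingle_mul, mulSingle_mul,
      show c + d + -c + -d = 0 by ring, mulSingle_zero] at h1
    exact cent_of_ac hPW (mul_mem (mul_mem (mul_mem pa pb) (inv_mem pa)) (inv_mem pb)) h1
  ne h0 := by
    obtain ⟨v, hv, hvi, -⟩ := exists_pt (M := M) i ![0, 1]
    have h1 := h.zero_of_cent hv (cent_symm h0 hv)
    rw [hvi] at h1
    exact one_ne_zero (α := F) h1
  le := relIndex_le_iff.2 (by rw [h.relIndex hPW hSP, h.relIndex' hPW hSP])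

/-- A minimal offender is a root group. -/
theorem Rt.of [Finite G] [CharP F 2] (h : MinOffM W S A) : ∃ i, Rt M i A := by
  classical
  obtain ⟨I, h1, h2⟩ := M.offM A h.le h.off
  have hI : I.Nonempty := by
    rw [Set.nonempty_iff_ne_empty]
    rintro rfl
    refine h.off.ne fun a ha => ?_
    obtain ⟨b, hb, hac⟩ := h1 a ha
    refine cent_of_ac (M := M) hPW (hSP (h.le ha)) fun v hv j => ?_
    have h3 : up (b j) = 1 := by rw [hb j (Set.notMem_empty j), up_zero]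
    exact (hac.1 v hv j).trans (congrArg (fun t => ap t (M.e v j)) h3)
  obtain ⟨i, hi⟩ := hI
  have key : ∀ c : F, (fun j => up ((Pi.single i c : Fin k → F) j) :
      Fin k → Matrix.SpecialLinearGroup (Fin 2) F) = Pi.mulSingle i (up c) := by
    intro c
    funext j
    by_cases hj : j = i
    · subst hj; rw [Pi.single_eq_same, Pi.mulSingle_eq_same]
    · rw [Pi.single_eq_of_ne hj, Pi.mulSingle_eq_of_ne hj, up_zero]
  let B : Subgroup G :=
    { carrier := {a | a ∈ A ∧ ∃ c : F, Ac M a (Pi.mulSingle i (up c))}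
      mul_mem' := by
        rintro a b ⟨ha, c, hc⟩ ⟨hb, d, hd⟩
        refine ⟨mul_mem ha hb, c + d, ?_⟩
        rw [← mulSingle_mul]
        exact Ac.mul hPW (hSP (h.le hb)) hc hd
      one_mem' := ⟨one_mem _, 0, by rw [mulSingle_zero]; exact ac_one (one_mem _)⟩
      inv_mem' := by
        rintro a ⟨ha, c, hc⟩
        refine ⟨inv_mem ha, -c, ?_⟩
        rw [← mulSingle_inv]
        exact hc.inv hPW (hSP (h.le ha)) }
  have hBA : B ≤ A := fun a ha => ha.1
  have hB : Rt M i B := by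
    refine ⟨hBA.trans h.le, fun a ha => ha.2, fun c => ?_⟩
    have hs : ∀ j, j ∉ I → (Pi.single i c : Fin k → F) j = 0 := by
      intro j hj
      have h3 : j ≠ i := fun h3 => hj (by rw [h3]; exact hi)
      rw [Pi.single_apply, if_neg h3]
    obtain ⟨a, ha, hac⟩ := h2 (Pi.single i c) hs
    have h3 : Ac M a (Pi.mulSingle i (up c)) := by rw [← key c]; exact hac.1
    exact ⟨a, ⟨ha, c, h3⟩, h3⟩
  have hm := h.min B hBA (hB.offM hPW hSP)
  have hAB : A ⊓ centralizer (W : Set G) = B ⊓ centralizer (W : Set G) := by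
    refine le_antisymm (fun a ha => ⟨⟨ha.1, 0, ?_⟩, ha.2⟩) (inf_le_inf_right _ hBA)
    rw [mulSingle_zero]; exact ac_one ha.2
  have e1 := Star.rel_mul_card A (centralizer (W : Set G))
  have e2 := Star.rel_mul_card B (centralizer (W : Set G))
  rw [← hAB] at e2
  have h3 : Nat.card A ≤ Nat.card B := by
    rw [← e1, ← e2]
    exact Nat.mul_le_mul_right _ hm
  have h4 : B = A := Subgroup.eq_of_le_of_card_ge hBA h3
  exact ⟨i, h4 ▸ hB⟩

end root

/-! ### Conjugation of minimal offenders -/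

section conj

omit [Field F]

variable {A : Subgroup G}

theorem offM_cj (h : OffM W A) {g : G} (hg : g ∈ normalizer (W : Set G)) : OffM W (cj g A) := by
  have hW : cj g W = W := cj_eq_of_mem_normalizer hg
  refine ⟨⟨?_, ?_⟩, fun h0 => h.ne ?_, ?_⟩
  · rintro _ ⟨a, ha, rfl⟩
    have h1 := Star.cen_cj hg (h.sq a ha)
    change (g * a * g⁻¹) ^ 2 ∈ _
    have e : (g * a * g⁻¹) ^ 2 = g * a ^ 2 * g⁻¹ := by rw [pow_two, pow_two]; group
    rwa [e]
  · rintro _ ⟨a, ha, rfl⟩ _ ⟨b, hb, rfl⟩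
    have h1 := Star.cen_cj hg (h.comm a ha b hb)
    change g * a * g⁻¹ * (g * b * g⁻¹) * (g * a * g⁻¹)⁻¹ * (g * b * g⁻¹)⁻¹ ∈ _
    have e : g * a * g⁻¹ * (g * b * g⁻¹) * (g * a * g⁻¹)⁻¹ * (g * b * g⁻¹)⁻¹ =
      g * (a * b * a⁻¹ * b⁻¹) * g⁻¹ := by group
    rwa [e]
  · rw [← hW, ← cj_centralizer, cj_le_iff, cj_inv_cj] at h0
    exact h0
  · have e1 : cj g A ⊓ centralizer (W : Set G) = cj g (A ⊓ centralizer (W : Set G)) := by
      conv_lhs => rw [← hW, ← cj_centralizer, ← cj_inf]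
    have e2 : W ⊓ centralizer (cj g A : Set G) = cj g (W ⊓ centralizer (A : Set G)) := by
      conv_lhs => rw [← hW, ← cj_centralizer, ← cj_inf]
    rw [e1, e2, card_cj, card_cj, card_cj]
    exact h.le

theorem minOffM_cj (hSW : S ≤ normalizer (W : Set G)) (h : MinOffM W S A) {t : G} (ht : t ∈ S) :
    MinOffM W S (cj t A) := by
  have hS : ∀ x ∈ S, cj x S = S := fun x hx => cj_eq_of_mem_normalizer (le_normalizer hx)
  refine ⟨?_, offM_cj h.off (hSW ht), fun B hB hB1 => ?_⟩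
  · rw [cj_le_iff, hS _ (inv_mem ht)]; exact h.le
  · rw [Star.rel_cj (hSW ht)]
    have h1 := h.min (cj t⁻¹ B) (by rw [cj_le_iff, inv_inv]; exact hB) (offM_cj hB1 (hSW (inv_mem ht)))
    rwa [Star.rel_cj (hSW (inv_mem ht))] at h1

theorem comm_cj (t : G) (ht : t ∈ normalizer (W : Set G)) : ⁅W, cj t A⁆ = cj t ⁅W, A⁆ := by
  have h : cj t ⁅W, A⁆ = ⁅cj t W, cj t A⁆ := map_commutator _ _ _
  rw [h, cj_eq_of_mem_normalizer ht]

end conj

section more

variable {M : NatKM F S P W ⊥ k} {A : Subgroup G}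
variable (hPW : P ≤ normalizer (W : Set G)) (hSP : S ≤ P)
include hPW hSP

/-- conjugates of `A` are root groups of all factors -/
theorem exists_rt [Finite G] [CharP F 2] {i : Fin k} (h : MinOffM W S A) (hr : Rt M i A) (j : Fin k) :
    ∃ t ∈ S, Rt M j (cj t A) := by
  obtain ⟨t, ht, hl⟩ := exists_cj_ln (M := M) hPW hSP i j
  obtain ⟨j', hj'⟩ := Rt.of (M := M) hPW hSP (minOffM_cj (hSP.trans hPW) h ht)
  have h1 := hj'.comm_eq hPW hSP
  rw [comm_cj t (hPW (hSP ht)), hr.comm_eq hPW hSP, hl] at h1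
  have h2 : j = j' := ln_injective h1
  exact ⟨t, ht, h2 ▸ hj'⟩

/-- the points are the lines -/
theorem pts_eq {i : Fin k} (hr : Rt M i A) : pts W S A = (fun j => ln M {j}) '' Set.univ := by
  ext R
  constructor
  · rintro ⟨s, hs, rfl⟩
    rw [hr.comm_eq hPW hSP]
    obtain ⟨j, hj⟩ := exists_cj_ln' (M := M) hPW hSP hs i
    exact ⟨j, Set.mem_univ _, hj.symm⟩
  · rintro ⟨j, -, rfl⟩
    obtain ⟨t, ht, hl⟩ := exists_cj_ln (M := M) hPW hSP i j
    exact ⟨t, ht, by rw [hr.comm_eq hPW hSP]; exact hl.symm⟩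

theorem sSup_pts {i : Fin k} (hr : Rt M i A) : sSup (pts W S A) = ln M Set.univ := by
  rw [pts_eq hPW hSP hr, sSup_ln]

theorem sSup_pts_diff {i : Fin k} (hr : Rt M i A) (j : Fin k) :
    sSup (pts W S A \ {ln M {j}}) = ln M {j}ᶜ := by
  have h1 : pts W S A \ {ln M {j}} = (fun j => ln M {j}) '' {j}ᶜ := by
    rw [pts_eq hPW hSP hr, Set.image_univ, Set.image_compl_eq_range_sdiff_image ln_injective, Set.image_singleton]
  rw [h1, sSup_ln]

/-- full vectors -/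
theorem full_iff {i : Fin k} (hr : Rt M i A) {v : G} : (v ∈ sSup (pts W S A) ∧
    ∀ r ∈ pts W S A, v ∉ sSup (pts W S A \ {r})) ↔ v ∈ W ∧ (∀ j, M.e v j 1 = 0) ∧ ∀ j, M.e v j ≠ 0 := by
  rw [sSup_pts hPW hSP hr]
  constructor
  · rintro ⟨h1, h2⟩
    refine ⟨h1.1, h1.2.1, fun j h0 => ?_⟩
    have h3 := h2 (ln M {j}) (by rw [pts_eq hPW hSP hr]; exact ⟨j, Set.mem_univ _, rfl⟩)
    rw [sSup_pts_diff hPW hSP hr] at h3
    refine h3 ⟨h1.1, h1.2.1, fun j' hj' => ?_⟩
    have : j' = j := not_not.1 hj'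
    rw [this, h0]
  · rintro ⟨h1, h2, h3⟩
    refine ⟨⟨h1, h2, fun j hj => absurd (Set.mem_univ j) hj⟩, fun r hrr => ?_⟩
    rw [pts_eq hPW hSP hr] at hrr
    obtain ⟨j, -, rfl⟩ := hrr
    rw [sSup_pts_diff hPW hSP hr]
    exact fun h4 => h3 j (h4.2.2 j (not_not.2 rfl))

omit hPW hSP in
theorem lift_ac (A' : Fin k → Matrix.SpecialLinearGroup (Fin 2) F) : ∃ g ∈ P, Ac M g A' := by
  obtain ⟨g, hg, h⟩ := M.lift A'
  exact ⟨g, hg, h.1⟩

omit hSP in
/-- vectors with the same support are conjugate -/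
theorem conj_of {v w : G} (hv : v ∈ W) (hw : w ∈ W) (h : ∀ j, M.e v j ≠ 0) (h' : ∀ j, M.e w j ≠ 0) :
    ∃ p ∈ P, w = p * v * p⁻¹ := by
  choose A' hA' using fun j => exists_ap (h j) (h' j)
  obtain ⟨p, hp, hac⟩ := lift_ac (M := M) A'
  refine ⟨p, hp, e_inj (M := M) hw (cmem hPW hp hv) ?_⟩
  funext j
  rw [hac v hv j, hA' j]

theorem gen [Finite G] [Finite F] [CharP F 2] {i : Fin k} (hA : MinOffM W S A) (hr : Rt M i A) :
    ∃ X : Finset G, (∀ x ∈ X, x ∈ P) ∧ (centralizer (W : Set G)).relIndex A ^ X.card ≤ Nat.card W ∧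
    W ⊓ (⨅ x ∈ X, centralizer ((cj x A : Subgroup G) : Set G)) = ⊥ ∧
    ∀ p ∈ P, cj p A ≤ (⨆ x ∈ X, cj x A) ⊔ (P ⊓ centralizer (W : Set G)) := by
  classical
  choose t ht hrt using exists_rt (M := M) hPW hSP hA hr
  obtain ⟨w, hw, hwac⟩ := lift_ac (M := M) fun _ => wm 1 one_ne_zero
  set X : Finset G := Finset.univ.image t ∪ Finset.univ.image (fun j => w * t j) with hX
  have hX1 : ∀ j, t j ∈ X := fun j => Finset.mem_union_left _ (Finset.mem_image_of_mem _ (Finset.mem_univ _))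
  have hX2 : ∀ j, w * t j ∈ X := fun j =>
    Finset.mem_union_right _ (Finset.mem_image_of_mem (fun j => w * t j) (Finset.mem_univ _))
  have hXP : ∀ x ∈ X, x ∈ P := by
    intro x hx
    rcases Finset.mem_union.1 hx with h1 | h1 <;> obtain ⟨j, -, rfl⟩ := Finset.mem_image.1 h1
    · exact hSP (ht j)
    · exact mul_mem hw (hSP (ht j))
  have hAP : A ≤ P := hA.le.trans hSP
  refine ⟨X, hXP, ?_, ?_, ?_⟩
  · rw [hr.relIndex hPW hSP, card_W M]
    refine Nat.pow_le_pow_right Nat.card_pos ?_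
    have h1 : X.card ≤ _ := Finset.card_union_le (Finset.univ.image t) (Finset.univ.image (fun j => w * t j))
    have h2 : (Finset.univ.image t).card ≤ k := Finset.card_image_le.trans (by simp)
    have h3 : (Finset.univ.image (fun j => w * t j)).card ≤ k := Finset.card_image_le.trans (by simp)
    omega
  · rw [eq_bot_iff]
    rintro v ⟨hv, hc⟩
    have hc' : ∀ x ∈ X, v ∈ centralizer ((cj x A : Subgroup G) : Set G) := by
      intro x hx
      have := mem_iInf.1 (mem_iInf.1 hc x) hx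
      exact this
    have h1 : ∀ j, M.e v j 1 = 0 := fun j => (hrt j).zero_of_cent hv (hc' _ (hX1 j))
    have h0 : ∀ j, M.e v j 0 = 0 := by
      intro j
      have hu : w⁻¹ * v * w ∈ W := by
        have := cmem hPW (inv_mem hw) hv
        rwa [inv_inv] at this
      have h2 : w⁻¹ * v * w ∈ centralizer ((cj (t j) A : Subgroup G) : Set G) := by
        have h3 := hc' _ (hX2 j)
        rw [← cj_cj, ← cj_centralizer, mem_cj] at h3
        exact h3
      have h3 := (hrt j).zero_of_cent hu h2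
      have h4 := hwac _ hu j
      have e1 : w * (w⁻¹ * v * w) * w⁻¹ = v := by group
      rw [e1] at h4
      rw [h4, ap_zero', wm_00, wm_01, h3]
      ring
    rw [mem_bot]
    refine e_inj (M := M) hv (one_mem _) ?_
    rw [e_one]
    funext j
    exact ext2 (h0 j) (h1 j)
  · set K : Subgroup G := (⨆ x ∈ X, cj x A) ⊔ (P ⊓ centralizer (W : Set G)) with hK
    have hKx : ∀ x ∈ X, cj x A ≤ K := fun x hx =>
      (le_iSup₂_of_le x hx le_rfl : cj x A ≤ ⨆ x ∈ X, cj x A).trans le_sup_left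
    let Γ : Subgroup (Fin k → Matrix.SpecialLinearGroup (Fin 2) F) :=
      { carrier := {B | ∃ m ∈ K, m ∈ P ∧ Ac M m B}
        mul_mem' := by
          rintro B B' ⟨m, hm, hmP, hmB⟩ ⟨m', hm', hmP', hmB'⟩
          exact ⟨m * m', mul_mem hm hm', mul_mem hmP hmP', Ac.mul hPW hmP' hmB hmB'⟩
        one_mem' := ⟨1, one_mem _, one_mem _, ac_one (one_mem _)⟩
        inv_mem' := by
          rintro B ⟨m, hm, hmP, hmB⟩
          exact ⟨m⁻¹, inv_mem hm, inv_mem hmP, hmB.inv hPW hmP⟩ }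
    have hup : ∀ j c, Pi.mulSingle j (up c) ∈ Γ := by
      intro j c
      obtain ⟨a, ha, hac⟩ := (hrt j).ex c
      exact ⟨a, hKx _ (hX1 j) ha, hSP ((hrt j).le ha), hac⟩
    have hlo : ∀ j c, Pi.mulSingle j (lo c) ∈ Γ := by
      intro j c
      obtain ⟨a, ha, hac⟩ := (hrt j).ex (-c)
      have haP := hSP ((hrt j).le ha)
      have h1 := Ac.mul hPW (inv_mem hw) (Ac.mul hPW haP hwac hac) (hwac.inv hPW hw)
      have e1 : (fun _ => wm 1 one_ne_zero : Fin k → Matrix.SpecialLinearGroup (Fin 2) F) *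
          Pi.mulSingle j (up (-c)) * (fun _ => wm 1 one_ne_zero)⁻¹ = Pi.mulSingle j (lo c) := by
        funext j'
        rw [Pi.mul_apply, Pi.mul_apply, Pi.inv_apply]
        by_cases hj : j' = j
        · subst hj
          rw [Pi.mulSingle_eq_same, Pi.mulSingle_eq_same, wm_up, mul_inv_cancel_right]
          congr 1
          ring
        · rw [Pi.mulSingle_eq_of_ne hj, Pi.mulSingle_eq_of_ne hj, mul_one, mul_inv_cancel]
      rw [e1] at h1
      refine ⟨w * a * w⁻¹, hKx _ (hX2 j) ?_, mul_mem (mul_mem hw haP) (inv_mem hw), h1⟩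
      rw [← cj_cj, mem_cj]
      have e2 : w⁻¹ * (w * a * w⁻¹) * w = a := by group
      rwa [e2]
    have hall : ∀ B, B ∈ Γ := by
      intro B
      refine pi_mem_of_mulSingle_mem B fun j => ?_
      obtain ⟨a, b, c, d, h1⟩ := exists_up_lo (B j)
      rw [h1, Pi.mulSingle_mul, Pi.mulSingle_mul, Pi.mulSingle_mul]
      exact mul_mem (mul_mem (mul_mem (hup j a) (hlo j b)) (hup j c)) (hlo j d)
    rintro p hp _ ⟨a, ha, rfl⟩
    change p * a * p⁻¹ ∈ K
    obtain ⟨c, hc⟩ := hr.acts a ha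
    obtain ⟨B, hB⟩ := M.norm p hp a (hAP ha) _ hc
    obtain ⟨m, hm, hmP, hmB⟩ := hall B
    have hpa : p * a * p⁻¹ ∈ P := mul_mem (mul_mem hp (hAP ha)) (inv_mem hp)
    have h1 := Ac.mul hPW hpa (hmB.inv hPW hmP) hB
    rw [inv_mul_cancel] at h1
    have h4 : m⁻¹ * (p * a * p⁻¹) ∈ P := mul_mem (inv_mem hmP) hpa
    have h2 : m⁻¹ * (p * a * p⁻¹) ∈ K :=
      (le_sup_right : P ⊓ centralizer (W : Set G) ≤ K) ⟨h4, cent_of_ac (M := M) hPW h4 h1⟩
    have h3 := mul_mem hm h2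
    rwa [mul_inv_cancel_left] at h3

end more

end NatR

open NatR in
open Cfsg.Agent.MinSimple.VModule (zc_le_zl le_normalizer_zl) in
/-- **(N)**: the interface `RP` for natural modules. -/
theorem rp_of_natKM {G : Type u} [Group G] [Finite G] {S P : Subgroup G} (hSP : S ≤ P) (hD : FrameFF.cv S P = ⊥)
    {F : Type} [Field F] [Finite F] [CharP F 2] {k : ℕ} (M : FFThm.NatKM F S P (zl S P) (FrameFF.cv S P) k) :
    RP S P := by
  rw [hD] at M
  have hPW : P ≤ normalizer (zl S P : Set G) := le_normalizer_zl S P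
  have hz : ∀ z ∈ zc S, z ≠ 1 → z ∈ zl S P ∧ (∀ j, M.e z j 1 = 0) ∧ ∀ j, M.e z j ≠ 0 := by
    intro z hz hz1
    have hzW := zc_le_zl S P hz
    have hcen : ∀ s ∈ S, s * z * s⁻¹ = z := by
      intro s hs
      rw [(ChoiceBase.mem_zc.1 hz).2.2 s hs]
      group
    refine ⟨hzW, fun j => ?_, fun j h0 => hz1 ?_⟩
    · obtain ⟨s, hs, hac⟩ := M.unip fun _ => 1
      have h1 := hac.1 z hzW j
      rw [hcen s hs, ap_up] at h1
      have h2 := congrFun h1 0
      simp only [Matrix.cons_val_zero, one_mul] at h2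
      exact left_eq_add.1 h2
    · refine e_inj (M := M) hzW (one_mem _) ?_
      rw [e_one]
      funext j'
      obtain ⟨s, hs, h1⟩ := M.trans j j'
      have h2 := (h1 z hzW).2 h0
      rwa [hcen s hs] at h2
  refine ⟨?_, ?_, ?_, ?_, ?_, ?_, ?_, ?_, ?_, ?_⟩
  · intro A hA
    obtain ⟨i, hr⟩ := Rt.of (M := M) hPW hSP hA
    rw [hr.comm_eq hPW hSP, card_ln, hr.relIndex hPW hSP]
  · intro A hA v hv hvA c hc
    obtain ⟨i, hr⟩ := Rt.of (M := M) hPW hSP hA
    rw [hr.comm_eq hPW hSP] at hc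
    have h1 : M.e v i 1 ≠ 0 := fun h0 => hvA (hr.fix hPW hSP hv h0)
    obtain ⟨a, ha, hac⟩ := hr.ex (M.e c i 0 / M.e v i 1)
    refine ⟨a, ha, ?_⟩
    have haP := hSP (hr.le ha)
    have hm := cmem hPW haP hv
    refine e_inj (M := M) (mul_mem hm (inv_mem hv)) hc.1 ?_
    funext j
    rw [M.mul _ hm _ (inv_mem hv), e_inv hv, Pi.add_apply, Pi.neg_apply]
    by_cases hj : j = i
    · subst hj
      rw [ac_at hac hv]
      refine ext2 ?_ ?_
      · simp only [Pi.add_apply, Pi.neg_apply, Matrix.cons_val_zero]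
        field_simp
        ring
      · simp [hc.2.1]
    · rw [ac_ne hac hv hj, add_neg_cancel, hc.2.2 j hj]
  · intro A B hA hB s hs
    obtain ⟨i, hr⟩ := Rt.of (M := M) hPW hSP hA
    obtain ⟨i', hr'⟩ := Rt.of (M := M) hPW hSP hB
    rw [hr.comm_eq hPW hSP]
    obtain ⟨j, hj⟩ := exists_cj_ln' (M := M) hPW hSP hs i
    rw [hj]
    exact fun v hv => hr'.fix hPW hSP hv.1 (hv.2.1 i')
  · intro A B hA hB
    obtain ⟨i, hr⟩ := Rt.of (M := M) hPW hSP hA
    obtain ⟨i', hr'⟩ := Rt.of (M := M) hPW hSP hB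
    obtain ⟨t, ht, h1⟩ := exists_cj_ln (M := M) hPW hSP i i'
    exact ⟨t, ht, by rw [hr.comm_eq hPW hSP, hr'.comm_eq hPW hSP, h1]⟩
  · intro A hA
    obtain ⟨i, hr⟩ := Rt.of (M := M) hPW hSP hA
    rw [hr.comm_eq hPW hSP, card_ln, card_W M, pts_eq hPW hSP hr, Set.ncard_image_of_injective _ ln_injective,
      Set.ncard_univ, Nat.card_fin]
  · intro A hA v hv
    obtain ⟨i, hr⟩ := Rt.of (M := M) hPW hSP hA
    have h1 : ∀ j, ∃ B : Matrix.SpecialLinearGroup (Fin 2) F, ap B (M.e v j) 1 = 0 := by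
      intro j
      by_cases h0 : M.e v j = 0
      · exact ⟨1, by rw [ap_one, h0]; rfl⟩
      · obtain ⟨B, hB⟩ := exists_ap h0 (show (![1, 0] : Fin 2 → F) ≠ 0 from fun h => one_ne_zero (congrFun h 0))
        exact ⟨B, by rw [hB]; rfl⟩
    choose B hB using h1
    obtain ⟨p, hp, hac⟩ := lift_ac (M := M) B
    refine ⟨p, hp, ?_⟩
    rw [sSup_pts hPW hSP hr]
    exact ⟨cmem hPW hp hv, fun j => by rw [hac v hv j]; exact hB j, fun j hj => absurd (Set.mem_univ j) hj⟩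
  · intro A hA z hz0 hz1
    obtain ⟨i, hr⟩ := Rt.of (M := M) hPW hSP hA
    exact (full_iff (M := M) hPW hSP hr).2 (hz z hz0 hz1)
  · intro A hA z hz0 hz1 v hv hv1
    obtain ⟨i, hr⟩ := Rt.of (M := M) hPW hSP hA
    obtain ⟨h1, -, h3⟩ := (full_iff (M := M) hPW hSP hr).1 ⟨hv, hv1⟩
    obtain ⟨h4, -, h5⟩ := hz z hz0 hz1
    exact conj_of (M := M) hPW h4 h1 h5 h3
  · intro z hz0 hz1 D hPD hzD v hv
    obtain ⟨h4, -, h5⟩ := hz z hz0 hz1
    have key : ∀ w ∈ zl S P, (∀ j, M.e w j ≠ 0) → w ∈ D := by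
      intro w hw hw1
      obtain ⟨p, hp, h6⟩ := conj_of (M := M) hPW h4 hw h5 hw1
      rw [h6]
      exact (mem_normalizer_iff.1 (hPD hp) z).1 hzD
    have h7 : ∀ x : Fin 2 → F, ∃ y : Fin 2 → F, y ≠ 0 ∧ x - y ≠ 0 := by
      intro x
      by_cases hx : x = ![1, 0]
      · refine ⟨![0, 1], fun h => one_ne_zero (congrFun h 1), fun h => ?_⟩
        rw [hx] at h
        have := congrFun h 0
        simp at this
      · exact ⟨![1, 0], fun h => one_ne_zero (congrFun h 0), fun h => hx (sub_eq_zero.1 h)⟩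
    choose y hy1 hy2 using h7
    obtain ⟨w, hw, hew⟩ := M.surj fun j => y (M.e v j)
    have hw1 : w ∈ D := key w hw fun j => by rw [hew]; exact hy1 _
    have hw2 : v * w⁻¹ ∈ D := by
      refine key _ (mul_mem hv (inv_mem hw)) fun j => ?_
      rw [M.mul v hv _ (inv_mem hw), e_inv hw, hew, Pi.add_apply, Pi.neg_apply, ← sub_eq_add_neg]
      exact hy2 _
    have := mul_mem hw2 hw1
    rwa [inv_mul_cancel_right] at this
  · intro A hA
    obtain ⟨i, hr⟩ := Rt.of (M := M) hPW hSP hA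
    exact gen (M := M) hPW hSP hA hr

end Cfsg.Agent.Omega.NOThreeL.NF

end

section


/-!
# THEOREM LOW (#19191), P8 = TORUS: the core

`N ≤ V` is a natural block with coordinates `c : N ≃ K²`, `R = {a ∈ N | c a 1 = 0}`, the elementary abelian group
`B ⊴ X` acts on `N` as `up (bet b)`, `R ≤ B`, noncommuting `X`-conjugates of `V` meet `R`-disjointly (`ti`), and
`x ∈ X` satisfies `R^x ∩ C(N) = 1 = R ∩ C(N^x)`.

* `Core.torus` : for `l ∈ Kˣ` there is `g ∈ ⟨N, N^x⟩` which acts on `R` as the multiplication by `l`.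
-/

set_option autoImplicit false

namespace Cfsg.Agent.Omega.NOThreeL.Low

open Subgroup Cfsg Cfsg.Agent.ZN.ChoiceBase

universe u

/-- The situation of TORUS. -/
structure Core {G : Type u} [Group G] {K : Type} [Field K] (X V B N : Subgroup G) (c : G → Fin 2 → K)
    (bet : G → K) (x : G) : Prop where
  NV : N ≤ V
  Vc : ∀ a ∈ V, ∀ b ∈ V, a * b = b * a
  VX : V ≤ X
  XB : X ≤ normalizer (B : Set G)
  Bc : ∀ a ∈ B, ∀ b ∈ B, a * b = b * a
  B2 : ∀ a ∈ B, a * a = 1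
  add : ∀ a ∈ N, ∀ b ∈ N, c (a * b) = c a + c b
  inj : ∀ a ∈ N, c a = 0 → a = 1
  surj : ∀ y : Fin 2 → K, ∃ a ∈ N, c a = y
  RB : ∀ a ∈ N, c a 1 = 0 → a ∈ B
  act : ∀ b ∈ B, ∀ a ∈ N, b * a * b⁻¹ ∈ N ∧ c (b * a * b⁻¹) = ![c a 0 + bet b * c a 1, c a 1]
  xX : x ∈ X
  ti : ∀ g ∈ X, ∀ a ∈ N, a ≠ 1 → c a 1 = 0 → ∀ a' ∈ N, c a' 1 = 0 → g * a' * g⁻¹ = a →
    ∀ v ∈ V, ∀ w ∈ V, v * (g * w * g⁻¹) = g * w * g⁻¹ * v
  dis : ∀ a ∈ N, c a 1 = 0 → (∀ n ∈ N, x * a * x⁻¹ * n = n * (x * a * x⁻¹)) → a = 1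
  dis' : ∀ a ∈ N, c a 1 = 0 → (∀ n ∈ N, a * (x * n * x⁻¹) = x * n * x⁻¹ * a) → a = 1

namespace Core

variable {G : Type u} [Group G] {K : Type} [Field K] {X V B N : Subgroup G} {c : G → Fin 2 → K}
  {bet : G → K} {x : G} (C : Core X V B N c bet x)

section
include C

theorem c_one : c 1 = 0 := by
  have h := C.add 1 (one_mem _) 1 (one_mem _)
  rw [one_mul] at h
  exact left_eq_add.1 h

theorem c_inv {a : G} (ha : a ∈ N) : c a⁻¹ = - c a := by
  have h := C.add a ha a⁻¹ (inv_mem ha)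
  rw [mul_inv_cancel, C.c_one] at h
  exact (neg_eq_of_add_eq_zero_right h.symm).symm

theorem ext {a b : G} (ha : a ∈ N) (hb : b ∈ N) (h : c a = c b) : a = b := by
  refine mul_inv_eq_one.1 (C.inj _ (mul_mem ha (inv_mem hb)) ?_)
  rw [C.add a ha _ (inv_mem hb), C.c_inv hb, h, add_neg_cancel]

theorem NX : N ≤ X := C.NV.trans C.VX

/-- `X` normalises `B`. -/
theorem cB {g b : G} (hg : g ∈ X) (hb : b ∈ B) : g * b * g⁻¹ ∈ B := (mem_normalizer_iff.1 (C.XB hg) b).1 hb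

theorem cB' {g b : G} (hg : g ∈ X) (hb : b ∈ B) : g⁻¹ * b * g ∈ B := by
  have := C.cB (inv_mem hg) hb
  rwa [inv_inv] at this

/-- the vector with coordinates `(t, 0)`. -/
theorem exR (t : K) : ∃ a ∈ N, c a = ![t, 0] := C.surj _

theorem bet_mul {b d : G} (hb : b ∈ B) (hd : d ∈ B) : bet (b * d) = bet b + bet d := by
  obtain ⟨a, ha, hca⟩ := C.surj ![0, 1]
  obtain ⟨h1, h2⟩ := C.act d hd a ha
  have h3 := (C.act b hb _ h1).2
  have h4 := (C.act (b * d) (mul_mem hb hd) a ha).2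
  have e1 : b * d * a * (b * d)⁻¹ = b * (d * a * d⁻¹) * b⁻¹ := by group
  rw [e1, h3] at h4
  have h5 := congrFun h4 0
  rw [h2, hca] at h5
  simp only [Matrix.cons_val_zero, Matrix.cons_val_one, mul_one, zero_add] at h5
  rw [← h5, add_comm]

theorem bet_zero_iff {b : G} (hb : b ∈ B) : bet b = 0 ↔ ∀ n ∈ N, b * n = n * b := by
  constructor
  · intro h n hn
    obtain ⟨h1, h2⟩ := C.act b hb n hn
    have h3 : b * n * b⁻¹ = n := by
      refine C.ext h1 hn ?_
      rw [h2, h]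
      funext j
      fin_cases j
      · simp
      · rfl
    exact mul_inv_eq_iff_eq_mul.1 h3
  · intro h
    obtain ⟨a, ha, hca⟩ := C.surj ![0, 1]
    have h1 := (C.act b hb a ha).2
    rw [h a ha, mul_inv_cancel_right, hca] at h1
    have h2 := congrFun h1 0
    simpa using h2.symm

theorem bet_R {a : G} (ha : a ∈ N) (h : c a 1 = 0) : bet a = 0 :=
  (C.bet_zero_iff (C.RB a ha h)).2 fun _ hn => C.Vc _ (C.NV ha) _ (C.NV hn)

variable [CharP K 2]

/-- The action of `N` on `B`. -/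
theorem up {n b : G} (hn : n ∈ N) (hb : b ∈ B) :
    ∃ r ∈ N, c r = ![bet b * c n 1, 0] ∧ n * b * n⁻¹ = r * b := by
  obtain ⟨h1, h2⟩ := C.act b hb n hn
  refine ⟨n * (b * n * b⁻¹)⁻¹, mul_mem hn (inv_mem h1), ?_, by group⟩
  rw [C.add n hn _ (inv_mem h1), C.c_inv h1, h2]
  funext j
  fin_cases j
  · change c n 0 + -(c n 0 + bet b * c n 1) = bet b * c n 1
    rw [CharTwo.neg_eq, ← add_assoc, CharTwo.add_self_eq_zero, zero_add]
  · change c n 1 + -(c n 1) = 0
    rw [add_neg_cancel]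

/-- The action of `N^x` on `B`. -/
theorem upx {n b : G} (hn : n ∈ N) (hb : b ∈ B) :
    ∃ r ∈ N, c r 1 = 0 ∧ x * n * x⁻¹ * b * (x * n * x⁻¹)⁻¹ = x * r * x⁻¹ * b := by
  obtain ⟨r, hr, hcr, h⟩ := C.up hn (C.cB' C.xX hb)
  refine ⟨r, hr, by rw [hcr]; rfl, ?_⟩
  have e1 : x * n * x⁻¹ * b * (x * n * x⁻¹)⁻¹ = x * (n * (x⁻¹ * b * x) * n⁻¹) * x⁻¹ := by group
  rw [e1, h]; group

omit [CharP K 2] in
/-- the elements of `R^x` lie in `B` -/
theorem RxB {r : G} (hr : r ∈ N) (h : c r 1 = 0) : x * r * x⁻¹ ∈ B := C.cB C.xX (C.RB r hr h)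

/-- `bet` is injective on `R^x`. -/
theorem bet_inj {r s : G} (hr : r ∈ N) (hr0 : c r 1 = 0) (hs : s ∈ N) (hs0 : c s 1 = 0)
    (h : bet (x * r * x⁻¹) = bet (x * s * x⁻¹)) : r = s := by
  have h1 : c (r * s) 1 = 0 := by rw [C.add r hr s hs, Pi.add_apply, hr0, hs0, add_zero]
  have e1 : x * (r * s) * x⁻¹ = x * r * x⁻¹ * (x * s * x⁻¹) := by group
  have h2 : bet (x * (r * s) * x⁻¹) = 0 := by
    rw [e1, C.bet_mul (C.RxB hr hr0) (C.RxB hs hs0), h, CharTwo.add_self_eq_zero]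
  have h3 : r * s = 1 := C.dis _ (mul_mem hr hs) h1
    ((C.bet_zero_iff (C.RxB (mul_mem hr hs) h1)).1 h2)
  have h4 := C.B2 s (C.RB s hs hs0)
  exact mul_right_cancel (h3.trans h4.symm)

/-- `bet` maps `R^x` onto `K`. -/
theorem bet_surj [Finite K] (t : K) : ∃ r ∈ N, c r 1 = 0 ∧ bet (x * r * x⁻¹) = t := by
  choose f hf hcf using C.exR
  have hinj : Function.Injective fun t : K => bet (x * f t * x⁻¹) := by
    intro s t h
    have h1 := C.bet_inj (hf s) (by rw [hcf]; rfl) (hf t) (by rw [hcf]; rfl) h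
    have h2 : c (f s) = c (f t) := by rw [h1]
    rw [hcf, hcf] at h2
    exact congrFun h2 0
  obtain ⟨s, hs⟩ := Finite.surjective_of_injective hinj t
  exact ⟨f s, hf s, by rw [hcf]; rfl, hs⟩

/-- `N^x` acts on `Y` as a group of matrices `low m`. -/
theorem low {n : G} (hn : n ∈ N) : ∃ m : K, ∀ a ∈ N, c a 1 = 0 → ∃ s ∈ N, c s 1 = 0 ∧
    x * n * x⁻¹ * a * (x * n * x⁻¹)⁻¹ = x * s * x⁻¹ * a ∧ bet (x * s * x⁻¹) = m * c a 0 := by
  set w := x * n * x⁻¹ with hw
  have hwX : w ∈ X := mul_mem (mul_mem C.xX (C.NX hn)) (inv_mem C.xX)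
  obtain ⟨a₀, ha₀, hca₀⟩ := C.exR 1
  have ha₀1 : c a₀ 1 = 0 := by rw [hca₀]; rfl
  obtain ⟨s₀, hs₀, hcs₀, hs₀w⟩ := C.upx hn (C.RB a₀ ha₀ ha₀1)
  refine ⟨bet (x * s₀ * x⁻¹), fun a ha hca => ?_⟩
  obtain ⟨s, hs, hcs, hsw⟩ := C.upx hn (C.RB a ha hca)
  refine ⟨s, hs, hcs, hsw, ?_⟩
  have ha₀ne : a₀ ≠ 1 := by
    intro h
    rw [h, C.c_one] at hca₀
    exact zero_ne_one (congrFun hca₀ 0)
  rw [← hw] at hs₀w hsw
  by_cases hm : bet (x * s₀ * x⁻¹) = 0
  · have h1 : s₀ = 1 := C.dis _ hs₀ hcs₀ ((C.bet_zero_iff (C.RxB hs₀ hcs₀)).1 hm)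
    rw [h1, mul_one, mul_inv_cancel, one_mul] at hs₀w
    have h2 := C.ti w hwX a₀ ha₀ ha₀ne ha₀1 a₀ ha₀ ha₀1 hs₀w
    rw [hm, zero_mul, C.bet_zero_iff (C.RxB hs hcs)]
    intro v hv
    have h3 := h2 v (C.NV hv) a (C.NV ha)
    rw [hsw] at h3
    have h4 := C.Vc v (C.NV hv) a (C.NV ha)
    have h5 : v * (x * s * x⁻¹) * a = x * s * x⁻¹ * v * a := by
      rw [mul_assoc v, h3, mul_assoc, ← h4, ← mul_assoc]
    exact (mul_right_cancel h5).symm
  · set m := bet (x * s₀ * x⁻¹) with hmdef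
    obtain ⟨v, hv, hcv⟩ := C.surj ![0, m⁻¹]
    have hcv1 : c v 1 = m⁻¹ := by rw [hcv]; rfl
    -- `v s₀^x v⁻¹ = a₀ s₀^x = w a₀ w⁻¹`
    obtain ⟨r, hr, hcr, hrv⟩ := C.up hv (C.RxB hs₀ hcs₀)
    rw [hcv1, ← hmdef, mul_inv_cancel₀ hm, ← hca₀] at hcr
    have hra : r = a₀ := C.ext hr ha₀ hcr
    rw [hra, C.Bc _ (C.RB a₀ ha₀ ha₀1) _ (C.RxB hs₀ hcs₀), ← hs₀w] at hrv
    set g := (v * x)⁻¹ * w with hg
    have hgX : g ∈ X := mul_mem (inv_mem (mul_mem (C.NX hv) C.xX)) hwX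
    have hgs : g * a₀ * g⁻¹ = s₀ := by
      have e1 : g * a₀ * g⁻¹ = (v * x)⁻¹ * (w * a₀ * w⁻¹) * (v * x) := by rw [hg]; group
      rw [e1, ← hrv]; group
    have hs₀ne : s₀ ≠ 1 := by
      intro h
      rw [h, mul_one, mul_inv_cancel] at hmdef
      exact hm (hmdef.trans (C.bet_R (one_mem _) (by rw [C.c_one]; rfl)))
    have h2 := C.ti g hgX s₀ hs₀ hs₀ne hcs₀ a₀ ha₀ ha₀1 hgs
    -- `w a w⁻¹` commutes with `(v x) N (v x)⁻¹`
    have hwB : w * a * w⁻¹ ∈ B := C.cB hwX (C.RB a ha hca)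
    obtain ⟨r', hr', hcr', hrv'⟩ := C.up (inv_mem hv) hwB
    rw [inv_inv] at hrv'
    have hbw : bet (w * a * w⁻¹) = bet (x * s * x⁻¹) := by
      rw [hsw, C.bet_mul (C.RxB hs hcs) (C.RB a ha hca), C.bet_R ha hca, add_zero]
    rw [hbw, C.c_inv hv, Pi.neg_apply, hcv1, CharTwo.neg_eq] at hcr'
    have hr'1 : c r' 1 = 0 := by rw [hcr']; rfl
    have h5 : r' * a = 1 := by
      refine C.dis' _ (mul_mem hr' ha) ?_ fun y hy => ?_
      · rw [C.add r' hr' a ha, Pi.add_apply, hr'1, hca, add_zero]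
      · -- `v⁻¹ (w a w⁻¹) v = r' a (x s x⁻¹)`
        have h6 := h2 y (C.NV hy) a (C.NV ha)
        have e1 : g * a * g⁻¹ = x⁻¹ * (v⁻¹ * (w * a * w⁻¹) * v) * x := by rw [hg]; group
        rw [e1, hrv', hsw] at h6
        have h7 : x * y * x⁻¹ * (r' * (x * s * x⁻¹ * a)) = r' * (x * s * x⁻¹ * a) * (x * y * x⁻¹) := by
          have := congrArg (fun t => x * t * x⁻¹) h6
          simpa [mul_assoc] using this
        have h8 : r' * (x * s * x⁻¹ * a) = r' * a * (x * s * x⁻¹) := by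
          rw [C.Bc _ (C.RxB hs hcs) _ (C.RB a ha hca)]; simp only [mul_assoc]
        have h9 : x * s * x⁻¹ * (x * y * x⁻¹) = x * y * x⁻¹ * (x * s * x⁻¹) := by
          have := C.Vc s (C.NV hs) y (C.NV hy)
          have e2 : x * s * x⁻¹ * (x * y * x⁻¹) = x * (s * y) * x⁻¹ := by group
          rw [e2, this]; group
        rw [h8] at h7
        have h10 : r' * a * (x * y * x⁻¹) * (x * s * x⁻¹) = x * y * x⁻¹ * (r' * a) * (x * s * x⁻¹) := by
          rw [mul_assoc, ← h9, ← mul_assoc, ← h7]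
          simp only [mul_assoc]
        exact mul_right_cancel h10
    have h6 : c (r' * a) 0 = 0 := by rw [h5, C.c_one]; rfl
    rw [C.add r' hr' a ha, Pi.add_apply, hcr'] at h6
    have h7 : bet (x * s * x⁻¹) * m⁻¹ = c a 0 := by
      have h8 : bet (x * s * x⁻¹) * m⁻¹ + c a 0 = 0 := h6
      exact CharTwo.add_eq_zero.1 h8
    rw [← h7]
    field_simp

/-- an element of `N^x` which centralises `R` lies in `R^x` -/
theorem low_ker [Finite K] {n : G} (hn : n ∈ N)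
    (h : ∀ a ∈ N, c a 1 = 0 → x * n * x⁻¹ * a = a * (x * n * x⁻¹)) : c n 1 = 0 := by
  -- an element `b ∈ B` with `bet b = 1`
  obtain ⟨r, hr, hcr, hbr⟩ := C.bet_surj 1
  have hb : x * r * x⁻¹ ∈ B := C.RxB hr hcr
  set b := x * r * x⁻¹ with hbdef
  -- `bet` is injective on `R^(x⁻¹)`, so onto
  have hinj : ∀ t : K, ∃ a ∈ N, c a 1 = 0 ∧ bet (x⁻¹ * a * x) = t := by
    choose f hf hcf using C.exR
    have hi : Function.Injective fun t : K => bet (x⁻¹ * f t * x) := by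
      intro s t hst
      have hBs : x⁻¹ * f s * x ∈ B := C.cB' C.xX (C.RB _ (hf s) (by rw [hcf]; rfl))
      have hBt : x⁻¹ * f t * x ∈ B := C.cB' C.xX (C.RB _ (hf t) (by rw [hcf]; rfl))
      have h1 : c (f s * f t) 1 = 0 := by
        rw [C.add _ (hf s) _ (hf t), Pi.add_apply, hcf, hcf]; simp
      have h2 : bet (x⁻¹ * (f s * f t) * x) = 0 := by
        have e1 : x⁻¹ * (f s * f t) * x = x⁻¹ * f s * x * (x⁻¹ * f t * x) := by group
        have hst' : bet (x⁻¹ * f s * x) = bet (x⁻¹ * f t * x) := hst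
        rw [e1, C.bet_mul hBs hBt, hst', CharTwo.add_self_eq_zero]
      have hB3 : x⁻¹ * (f s * f t) * x ∈ B :=
        C.cB' C.xX (C.RB _ (mul_mem (hf s) (hf t)) h1)
      have h3 : f s * f t = 1 := by
        refine C.dis' _ (mul_mem (hf s) (hf t)) h1 fun y hy => ?_
        have h4 := (C.bet_zero_iff hB3).1 h2 y hy
        have h5 := congrArg (fun t => x * t * x⁻¹) h4
        have e2 : x * (x⁻¹ * (f s * f t) * x * y) * x⁻¹ = f s * f t * (x * y * x⁻¹) := by group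
        have e3 : x * (y * (x⁻¹ * (f s * f t) * x)) * x⁻¹ = x * y * x⁻¹ * (f s * f t) := by group
        change x * (x⁻¹ * (f s * f t) * x * y) * x⁻¹ = x * (y * (x⁻¹ * (f s * f t) * x)) * x⁻¹ at h5
        rw [e2, e3] at h5
        exact h5
      have h4 := C.B2 (f t) (C.RB _ (hf t) (by rw [hcf]; rfl))
      have h5 : f s = f t := mul_right_cancel (h3.trans h4.symm)
      have h6 : c (f s) = c (f t) := by rw [h5]
      rw [hcf, hcf] at h6
      exact congrFun h6 0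
    intro t
    obtain ⟨s, hs⟩ := Finite.surjective_of_injective hi t
    exact ⟨f s, hf s, by rw [hcf]; rfl, hs⟩
  -- `n` centralises `b`
  obtain ⟨a, ha, hca, hba⟩ := hinj 1
  have haB : x⁻¹ * a * x ∈ B := C.cB' C.xX (C.RB a ha hca)
  have h1 := h a ha hca
  have h2 : n * (x⁻¹ * a * x) * n⁻¹ = x⁻¹ * a * x := by
    have e1 : n * (x⁻¹ * a * x) * n⁻¹ = x⁻¹ * (x * n * x⁻¹ * a) * (x * n⁻¹) := by group
    rw [e1, h1]; group
  obtain ⟨r', hr', hcr', hr'e⟩ := C.up hn haB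
  rw [h2] at hr'e
  have h3 : r' = 1 := (right_eq_mul.1 hr'e)
  rw [h3, C.c_one, hba] at hcr'
  have h4 := congrFun hcr' 0
  simpa using h4.symm

/-- every `low m` is induced by `N^x` -/
theorem low_surj [Finite K] (m : K) : ∃ n ∈ N, ∀ a ∈ N, c a 1 = 0 → ∃ s ∈ N, c s 1 = 0 ∧
    x * n * x⁻¹ * a * (x * n * x⁻¹)⁻¹ = x * s * x⁻¹ * a ∧ bet (x * s * x⁻¹) = m * c a 0 := by
  have hex : ∀ t : K, ∃ n ∈ N, c n = ![0, t] := fun t => C.surj _
  choose f hf hcf using hex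
  choose g hg using fun t => C.low (hf t)
  have hinj : Function.Injective g := by
    intro s t hst
    have h1 : c (f t * (f s)⁻¹) 1 = 0 := by
      refine C.low_ker (mul_mem (hf t) (inv_mem (hf s))) fun a ha hca => ?_
      -- the two elements act equally
      obtain ⟨r, hr, hcr, hre, hbr⟩ := hg s a ha hca
      obtain ⟨r', hr', hcr', hre', hbr'⟩ := hg t a ha hca
      have h2 : r = r' := C.bet_inj hr hcr hr' hcr' (by rw [hbr, hbr', hst])
      rw [← h2, ← hre] at hre'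
      -- `f t` and `f s` commute
      have h3 := C.Vc _ (C.NV (hf t)) _ (C.NV (inv_mem (hf s)))
      have e1 : x * (f t * (f s)⁻¹) * x⁻¹ = (x * f s * x⁻¹)⁻¹ * (x * f t * x⁻¹) := by
        rw [h3]; group
      have h4 : (x * f s * x⁻¹)⁻¹ * (x * f t * x⁻¹) * a * ((x * f s * x⁻¹)⁻¹ * (x * f t * x⁻¹))⁻¹ = a := by
        have e2 : (x * f s * x⁻¹)⁻¹ * (x * f t * x⁻¹) * a * ((x * f s * x⁻¹)⁻¹ * (x * f t * x⁻¹))⁻¹ =
          (x * f s * x⁻¹)⁻¹ * (x * f t * x⁻¹ * a * (x * f t * x⁻¹)⁻¹) * (x * f s * x⁻¹) := by group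
        rw [e2, hre']; group
      rw [e1]
      exact mul_inv_eq_iff_eq_mul.1 h4
    rw [C.add _ (hf t) _ (inv_mem (hf s)), C.c_inv (hf s), Pi.add_apply, Pi.neg_apply, hcf, hcf] at h1
    have h2 : t + -s = 0 := h1
    exact (add_neg_eq_zero.1 h2).symm
  obtain ⟨t, rfl⟩ := Finite.surjective_of_injective hinj m
  exact ⟨f t, hf t, hg t⟩

/-- **TORUS.** -/
theorem torus [Finite K] {l : K} (hl : l ≠ 0) : ∃ g ∈ N ⊔ cj x N, ∀ a ∈ N, c a 1 = 0 →
    g * a * g⁻¹ ∈ N ∧ c (g * a * g⁻¹) = ![l * c a 0, 0] := by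
  obtain ⟨n₁, hn₁, h₁⟩ := C.low_surj 1
  obtain ⟨n₂, hn₂, h₂⟩ := C.low_surj l⁻¹
  obtain ⟨v, hv, hcv⟩ := C.surj ![0, 1 + l]
  have hx : ∀ {n : G}, n ∈ N → x * n * x⁻¹ ∈ N ⊔ cj x N := fun {n} hn => by
    refine (le_sup_right : cj x N ≤ _) ?_
    rw [mem_cj]
    have e1 : x⁻¹ * (x * n * x⁻¹) * x = n := by group
    rw [e1]; exact hn
  refine ⟨x * n₂ * x⁻¹ * v * (x * n₁ * x⁻¹), mul_mem (mul_mem (hx hn₂) ((le_sup_left : N ≤ _) hv)) (hx hn₁),
    fun a ha hca => ?_⟩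
  obtain ⟨s, hs, hcs, hse, hbs⟩ := h₁ a ha hca
  -- `v` acts
  have hsB := C.RxB hs hcs
  obtain ⟨r, hr, hcr, hre⟩ := C.up hv hsB
  have hr1 : c r 1 = 0 := by rw [hcr]; rfl
  have hra : r * a ∈ N := mul_mem hr ha
  have hcra : c (r * a) = ![l * c a 0, 0] := by
    rw [C.add r hr a ha, hcr, hbs, hcv]
    funext j
    fin_cases j
    · change 1 * c a 0 * (1 + l) + c a 0 = l * c a 0
      have : 1 * c a 0 * (1 + l) + c a 0 = l * c a 0 + (c a 0 + c a 0) := by ring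
      rw [this, CharTwo.add_self_eq_zero, add_zero]
    · change (0 : K) + c a 1 = 0
      rw [hca, add_zero]
  have hcra1 : c (r * a) 1 = 0 := by rw [hcra]; rfl
  obtain ⟨s', hs', hcs', hse', hbs'⟩ := h₂ _ hra hcra1
  have hss : s' = s := by
    refine C.bet_inj hs' hcs' hs hcs ?_
    rw [hbs', hbs, hcra]
    change l⁻¹ * (l * c a 0) = 1 * c a 0
    rw [inv_mul_cancel_left₀ hl, one_mul]
  have hfin : x * n₂ * x⁻¹ * v * (x * n₁ * x⁻¹) * a * (x * n₂ * x⁻¹ * v * (x * n₁ * x⁻¹))⁻¹ = r * a := by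
    have e1 : x * n₂ * x⁻¹ * v * (x * n₁ * x⁻¹) * a * (x * n₂ * x⁻¹ * v * (x * n₁ * x⁻¹))⁻¹ =
      x * n₂ * x⁻¹ * (v * (x * n₁ * x⁻¹ * a * (x * n₁ * x⁻¹)⁻¹) * v⁻¹) * (x * n₂ * x⁻¹)⁻¹ := by group
    have e2 : v * (x * s * x⁻¹ * a) * v⁻¹ = v * (x * s * x⁻¹) * v⁻¹ * a := by
      have h3 := C.Vc v (C.NV hv) a (C.NV ha)
      have h4 : a * v⁻¹ = v⁻¹ * a := by
        rw [eq_inv_mul_iff_mul_eq, ← mul_assoc, h3, mul_inv_cancel_right]
      rw [mul_assoc v, mul_assoc (x * s * x⁻¹), h4]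
      simp only [mul_assoc]
    have e3 : r * (x * s * x⁻¹) * a = x * s * x⁻¹ * (r * a) := by
      rw [C.Bc r (C.RB r hr hr1) _ hsB, mul_assoc]
    rw [e1, hse, e2, hre, e3]
    have e4 : x * n₂ * x⁻¹ * (x * s * x⁻¹ * (r * a)) * (x * n₂ * x⁻¹)⁻¹ =
      x * (n₂ * s) * x⁻¹ * (r * a) * (x * n₂ * x⁻¹)⁻¹ := by group
    have e5 : x * (n₂ * s) * x⁻¹ = x * s * x⁻¹ * (x * n₂ * x⁻¹) := by
      rw [C.Vc n₂ (C.NV hn₂) s (C.NV hs)]; group
    have e6 : x * s * x⁻¹ * (x * n₂ * x⁻¹) * (r * a) * (x * n₂ * x⁻¹)⁻¹ =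
      x * s * x⁻¹ * (x * n₂ * x⁻¹ * (r * a) * (x * n₂ * x⁻¹)⁻¹) := by group
    rw [e4, e5, e6, hse', hss, ← mul_assoc, C.B2 _ hsB, one_mul]
  rw [hfin]
  exact ⟨hra, hcra⟩

end

end Core

end Cfsg.Agent.Omega.NOThreeL.Low

end

section


/-!
# THEOREM LOW of NO-3L (#19191, helper597), (T2): the symmetric case

`U = ⨁ Uᵢ` is a sum of even-subset modules of `S_{2^m+1}` (`SymK T H U ⊥ k m`), `B ≤ T` with `[U, B, B] = 1`,
`U ≰ E`.  Then there is `w ∈ U`, `w ∉ E`, with `w^b = w^c` for all `b, c ∈ B` which move `w`.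

Take `w = {(i,0), (i,y)}`: these vectors generate `U`, `T` permutes them, and they are linearly independent.
-/

set_option autoImplicit false
set_option maxHeartbeats 400000

namespace Cfsg.Agent.Omega.NOThreeL.Low.SymCase

open Subgroup Cfsg
open Cfsg.Agent.Omega.FFThm

universe u

variable {G : Type u} [Group G] {T H U : Subgroup G} {k m : ℕ}

/-- The vector with support `{(i, 0), (i, y)}`. -/
def pv {k n : ℕ} [NeZero n] (i : Fin k) (y : Fin n) : Fin k → Fin n → ZMod 2 :=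
  fun a x => if a = i ∧ (x = 0 ∨ x = y) then 1 else 0

theorem pv_self {k n : ℕ} [NeZero n] (i : Fin k) (y : Fin n) : pv i y i y = 1 := by
  unfold pv
  rw [if_pos ⟨rfl, Or.inr rfl⟩]

theorem pv_eq_one {k n : ℕ} [NeZero n] {i j : Fin k} {y z : Fin n} (hz : z ≠ 0) (h : pv i y j z = 1) :
    j = i ∧ z = y := by
  unfold pv at h
  by_contra hcon
  rw [if_neg] at h
  · exact absurd h (by decide)
  · rintro ⟨h1, h2⟩
    exact hcon ⟨h1, h2.resolve_left hz⟩

theorem pv_zero_or_one {k n : ℕ} [NeZero n] (i j : Fin k) (y z : Fin n) : pv i y j z = 0 ∨ pv i y j z = 1 := by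
  unfold pv
  split_ifs
  · exact Or.inr rfl
  · exact Or.inl rfl

theorem sum_pv {k n : ℕ} [NeZero n] {i : Fin k} {y : Fin n} (hy : y ≠ 0) (a : Fin k) : ∑ x, pv i y a x = 0 := by
  by_cases ha : a = i
  · subst ha
    have h1 : ∀ x : Fin n, pv a y a x = (if x = 0 then 1 else 0) + (if x = y then 1 else 0) := by
      intro x
      unfold pv
      by_cases h0 : x = 0
      · subst h0
        rw [if_pos ⟨rfl, Or.inl rfl⟩, if_pos rfl, if_neg (Ne.symm hy), add_zero]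
      · by_cases h2 : x = y
        · rw [if_pos ⟨rfl, Or.inr h2⟩, if_neg h0, if_pos h2, zero_add]
        · rw [if_neg, if_neg h0, if_neg h2, add_zero]
          rintro ⟨-, h3 | h3⟩
          exacts [h0 h3, h2 h3]
    rw [Finset.sum_congr rfl fun x _ => h1 x, Finset.sum_add_distrib, Finset.sum_ite_eq', Finset.sum_ite_eq',
      if_pos (Finset.mem_univ _), if_pos (Finset.mem_univ _)]
    decide
  · refine Finset.sum_eq_zero fun x _ => ?_
    unfold pv
    rw [if_neg]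
    rintro ⟨h, -⟩
    exact ha h

variable (h : SymK T H U ⊥ k m)
include h

theorem eq_of_e {v w : G} (hv : v ∈ U) (hw : w ∈ U) (he : h.e v = h.e w) : v = w := by
  have h1 : v * w⁻¹ ∈ U := U.mul_mem hv (U.inv_mem hw)
  have h2 : h.e v = h.e (v * w⁻¹) + h.e w := by
    rw [← h.mul _ h1 _ hw, inv_mul_cancel_right]
  have h3 : h.e (v * w⁻¹) = 0 := by
    have h4 : h.e (v * w⁻¹) + h.e w = 0 + h.e w := by rw [← h2, he, zero_add]
    exact add_right_cancel h4
  exact mul_inv_eq_one.1 (mem_bot.1 ((h.ker _ h1).1 h3))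

theorem exists_w {i : Fin k} {y : Fin (2 ^ m + 1)} (hy : y ≠ 0) : ∃ w ∈ U, h.e w = pv i y :=
  h.surj _ fun a => sum_pv hy a

theorem e_one : h.e 1 = 0 := (h.ker 1 U.one_mem).2 (mem_bot.2 rfl)

theorem e_inv {v : G} (hv : v ∈ U) : h.e v⁻¹ = h.e v := by
  have h1 : h.e v⁻¹ + h.e v = 0 := by
    rw [← h.mul _ (U.inv_mem hv) _ hv, inv_mul_cancel, e_one h]
  have h2 : h.e v⁻¹ = -h.e v := eq_neg_of_add_eq_zero_left h1
  rw [h2]
  funext i x
  exact CharTwo.neg_eq (h.e v i x)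

/-- `T` permutes the vectors `{(i, 0), (i, y)}`. -/
theorem e_conj {t w : G} (ht : t ∈ T) (hTH : T ≤ H) (hw : w ∈ U) {i : Fin k} {y : Fin (2 ^ m + 1)} (hy : y ≠ 0)
    (he : h.e w = pv i y) : ∃ (j : Fin k) (z : Fin (2 ^ m + 1)), z ≠ 0 ∧ h.e (t * w * t⁻¹) = pv j z := by
  obtain ⟨σ, τ, hστ⟩ := h.perm t (hTH ht)
  have h0 := h.fix0 t ht σ τ hστ
  refine ⟨σ i, τ i y, fun hz => hy ((τ i).injective (hz.trans (h0 i).symm)), ?_⟩
  funext a x
  obtain ⟨a, rfl⟩ := σ.surjective a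
  obtain ⟨x, rfl⟩ := (τ a).surjective x
  rw [hστ w hw a x, he]
  unfold pv
  by_cases ha : a = i
  · subst ha
    have e1 : (τ a x = 0) = (x = 0) := by
      apply propext
      constructor
      · intro h1
        exact (τ a).injective (h1.trans (h0 a).symm)
      · rintro rfl
        exact h0 a
    have e2 : (τ a x = τ a y) = (x = y) := propext ((τ a).injective.eq_iff)
    simp only [e1, e2]
  · rw [if_neg (fun h1 => ha h1.1), if_neg (fun h1 => ha (σ.injective h1.1))]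

/-- The vectors `{(i, 0), (i, y)}` generate `U`. -/
theorem exists_notMem {E : Subgroup G} (hE : ¬ U ≤ E) :
    ∃ (i : Fin k) (y : Fin (2 ^ m + 1)), y ≠ 0 ∧ ∃ w ∈ U, w ∉ E ∧ h.e w = pv i y := by
  classical
  by_contra hcon
  have hall : ∀ (i : Fin k) (y : Fin (2 ^ m + 1)), y ≠ 0 → ∀ w ∈ U, h.e w = pv i y → w ∈ E := by
    intro i y hy w hw he
    by_contra hwE
    exact hcon ⟨i, y, hy, w, hw, hwE, he⟩
  -- every vector is a product
  have key : ∀ (n : ℕ) (v : G), v ∈ U →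
      (Finset.univ.filter fun p : Fin k × Fin (2 ^ m + 1) => p.2 ≠ 0 ∧ h.e v p.1 p.2 ≠ 0).card = n → v ∈ E := by
    intro n
    induction n using Nat.strong_induction_on with
    | _ n ih =>
      intro v hv hn
      by_cases hne : ∃ (i : Fin k) (y : Fin (2 ^ m + 1)), y ≠ 0 ∧ h.e v i y ≠ 0
      · obtain ⟨i, y, hy, hiy⟩ := hne
        obtain ⟨w, hw, he⟩ := exists_w h (i := i) hy
        have hvw : h.e (w * v) = pv i y + h.e v := by rw [h.mul _ hw _ hv, he]
        have hlt : (Finset.univ.filter fun p : Fin k × Fin (2 ^ m + 1) =>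
            p.2 ≠ 0 ∧ h.e (w * v) p.1 p.2 ≠ 0).card < n := by
          rw [← hn]
          refine Finset.card_lt_card ⟨fun p hp => ?_, fun hle => ?_⟩
          · rw [Finset.mem_filter] at hp ⊢
            refine ⟨Finset.mem_univ _, hp.2.1, fun h0 => hp.2.2 ?_⟩
            rw [hvw]
            change pv i y p.1 p.2 + h.e v p.1 p.2 = 0
            rw [h0, add_zero]
            rcases pv_zero_or_one i p.1 y p.2 with h1 | h1
            · exact h1
            · obtain ⟨h2, h3⟩ := pv_eq_one hp.2.1 h1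
              rw [h2, h3] at h0
              exact absurd h0 hiy
          · have h1 : (i, y) ∈ Finset.univ.filter fun p : Fin k × Fin (2 ^ m + 1) =>
                p.2 ≠ 0 ∧ h.e v p.1 p.2 ≠ 0 := Finset.mem_filter.2 ⟨Finset.mem_univ _, hy, hiy⟩
            have h2 := (Finset.mem_filter.1 (hle h1)).2.2
            refine h2 ?_
            rw [hvw]
            change pv i y i y + h.e v i y = 0
            rw [pv_self]
            have h3 : ∀ a : ZMod 2, a ≠ 0 → 1 + a = 0 := by decide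
            exact h3 _ hiy
        have h4 := ih _ hlt (w * v) (U.mul_mem hw hv) rfl
        have h5 := E.mul_mem (E.inv_mem (hall i y hy w hw he)) h4
        rwa [inv_mul_cancel_left] at h5
      · have h0 : h.e v = 0 := by
          funext i x
          have hx : ∀ y, y ≠ 0 → h.e v i y = 0 := by
            intro y hy
            by_contra h1
            exact hne ⟨i, y, hy, h1⟩
          by_cases hx0 : x = 0
          · have h1 := h.even v hv i
            rw [Finset.sum_eq_single (0 : Fin (2 ^ m + 1)) (fun y _ hy => hx y hy)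
              (fun h2 => absurd (Finset.mem_univ _) h2)] at h1
            rw [hx0]
            exact h1
          · exact hx x hx0
        rw [mem_bot.1 ((h.ker v hv).1 h0)]
        exact one_mem _
  exact hE fun v hv => key _ v hv rfl

/-- **(T2)** -/
theorem exists_swap (hTH : T ≤ H) (hHU : H ≤ normalizer (U : Set G)) {B E : Subgroup G} (hBT : B ≤ T)
    (hB : ∀ w ∈ U, ∀ b ∈ B, ∀ c ∈ B, c * (w * (b * w * b⁻¹)) * c⁻¹ = w * (b * w * b⁻¹)) (hE : ¬ U ≤ E) :
    ∃ w ∈ U, w ∉ E ∧ ∀ b ∈ B, ∀ c ∈ B, b * w * b⁻¹ ≠ w → c * w * c⁻¹ ≠ w → b * w * b⁻¹ = c * w * c⁻¹ := by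
  obtain ⟨i, y, hy, w, hw, hwE, he⟩ := exists_notMem h hE
  refine ⟨w, hw, hwE, fun b hb c hc hbw hcw => ?_⟩
  have hcj : ∀ t ∈ B, ∀ v ∈ U, t * v * t⁻¹ ∈ U := fun t ht v hv =>
    (mem_normalizer_iff.1 (hHU (hTH (hBT ht))) v).1 hv
  obtain ⟨j, y', hy', hj⟩ := e_conj h (hBT hb) hTH hw hy he
  obtain ⟨l, z, hz, hl⟩ := e_conj h (hBT hc) hTH hw hy he
  obtain ⟨l', z', hz', hl'⟩ := e_conj h (hBT hc) hTH (hcj b hb w hw) hy' hj
  have h1 := hB w hw b hb c hc
  have h2 : c * (w * (b * w * b⁻¹)) * c⁻¹ = c * w * c⁻¹ * (c * (b * w * b⁻¹) * c⁻¹) := by group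
  rw [h2] at h1
  have h3 := congrArg h.e h1
  rw [h.mul _ (hcj c hc w hw) _ (hcj c hc _ (hcj b hb w hw)), h.mul _ hw _ (hcj b hb w hw), hl, hl', he, hj] at h3
  -- `(l, z) = (j, y')`
  have h4 : pv l z l z + pv l' z' l z = pv i y l z + pv j y' l z := congrFun (congrFun h3 l) z
  have hne1 : pv i y l z = 0 := by
    rcases pv_zero_or_one i l y z with h5 | h5
    · exact h5
    · obtain ⟨e1, e2⟩ := pv_eq_one hz h5
      refine absurd (eq_of_e h (hcj c hc w hw) hw ?_) hcw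
      rw [hl, he, e1, e2]
  have hne2 : pv l' z' l z = 0 := by
    rcases pv_zero_or_one l' l z' z with h5 | h5
    · exact h5
    · obtain ⟨e1, e2⟩ := pv_eq_one hz h5
      refine absurd ?_ hbw
      have h6 : c * w * c⁻¹ = c * (b * w * b⁻¹) * c⁻¹ :=
        eq_of_e h (hcj c hc w hw) (hcj c hc _ (hcj b hb w hw)) (by rw [hl, hl', e1, e2])
      have h7 : w = b * w * b⁻¹ := mul_left_cancel (mul_right_cancel h6)
      exact h7.symm
  rw [pv_self, hne1, hne2, add_zero, zero_add] at h4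
  obtain ⟨e1, e2⟩ := pv_eq_one hz h4.symm
  exact eq_of_e h (hcj b hb w hw) (hcj c hc w hw) (by rw [hj, hl, e1, e2])

/-- **(T2)** with (T1) + (I2) as the hypothesis `t1` (the form of helper934's `QB`). -/
theorem le_of_t1 (hTH : T ≤ H) (hHU : H ≤ normalizer (U : Set G)) {B E : Subgroup G} (hBT : B ≤ T)
    (hB : ∀ w ∈ U, ∀ b ∈ B, ∀ c ∈ B, c * (b * w * b⁻¹ * w⁻¹) = b * w * b⁻¹ * w⁻¹ * c)
    (t1 : ∀ w ∈ U, w ∉ E → ¬ ∀ b ∈ B, ∀ c ∈ B, b * w * b⁻¹ ≠ w → c * w * c⁻¹ ≠ w →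
      b * w * b⁻¹ = c * w * c⁻¹) : U ≤ E := by
  by_contra hE
  have key : ∀ w ∈ U, ∀ b ∈ B, ∀ c ∈ B, c * (w * (b * w * b⁻¹)) * c⁻¹ = w * (b * w * b⁻¹) := by
    intro w hw b hb c hc
    have hbw : b * w * b⁻¹ ∈ U := (mem_normalizer_iff.1 (hHU (hTH (hBT hb))) w).1 hw
    have e0 : w⁻¹ = w := eq_of_e h (U.inv_mem hw) hw (e_inv h hw)
    have e1 : w * (b * w * b⁻¹) = b * w * b⁻¹ * w⁻¹ := by
      rw [e0]
      exact eq_of_e h (U.mul_mem hw hbw) (U.mul_mem hbw hw)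
        (by rw [h.mul _ hw _ hbw, h.mul _ hbw _ hw]; exact add_comm _ _)
    rw [e1, hB w hw b hb c hc, mul_inv_cancel_right]
  obtain ⟨w, hw, hwE, h1⟩ := exists_swap h hTH hHU hBT key hE
  exact t1 w hw hwE h1

end Cfsg.Agent.Omega.NOThreeL.Low.SymCase

end

section


/-!
# THEOREM LOW (#19191): the full-support vectors of a natural line

`M : NatKM F S P V ⊥ k`, `1 ≠ Ω₁(Z(S)) ≤ V`.  A *point* of the line `V` is `Z^p`, `p ∈ P`, `Z = zc S`.

* `full_of_zc` : all components of `1 ≠ z ∈ Z` are nonzero, with second coordinate 0;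
* `exists_conj` : a vector of `V` with all components nonzero is `p z p⁻¹`, `p ∈ P`, `z ∈ Z` arbitrary;
* `mem_pt` : it lies in a point;
* `exists_zero` : if `D` meets no point of `V`, then every vector of `D ∩ V` has a component 0;
* `blk`, `card_blk` : the `j`-th summand, of order `|F|²`;
* `exists_full_of_blk` : if `D` meets all summands, then it has a vector with full support;
* `exists_full` : if `|V : V ∩ D| < |F|²`, then `D` has a vector with full support;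
* `exists_full_cj`, `meets_cj`, `false_of_cj` : the same for the line `V^m`.
-/

set_option autoImplicit false

namespace Cfsg.Agent.Omega.NOThreeL.Low.Full

open Subgroup Cfsg Cfsg.Agent.ZN Cfsg.Agent.ZN.ChoiceBase
open Cfsg.Agent.Omega.FFThm (NatKM)
open Cfsg.Agent.Omega.NOThreeL.NF Cfsg.Agent.Omega.NOThreeL.NF.NatR
open Cfsg.Agent.Lib.SL2Mat

universe u

variable {G : Type u} [Group G] {F : Type} [Field F] {S P V : Subgroup G} {k : ℕ}

theorem conj_mem_cj {g x : G} {H : Subgroup G} (hx : x ∈ H) : g * x * g⁻¹ ∈ cj g H := by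
  rw [mem_cj]
  convert hx using 1
  group

theorem relIndex_ne [Finite G] {H K : Subgroup G} : H.relIndex K ≠ 0 := by
  rw [relIndex]
  exact index_ne_zero_of_finite

theorem full_of_zc (M : NatKM F S P V ⊥ k) (hZV : zc S ≤ V) {z : G} (hz : z ∈ zc S) (hz1 : z ≠ 1) :
    (∀ j, M.e z j 1 = 0) ∧ ∀ j, M.e z j ≠ 0 := by
  have hzW := hZV hz
  have hcen : ∀ s ∈ S, s * z * s⁻¹ = z := by
    intro s hs
    rw [(ChoiceBase.mem_zc.1 hz).2.2 s hs]
    group
  refine ⟨fun j => ?_, fun j h0 => hz1 ?_⟩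
  · obtain ⟨s, hs, hac⟩ := M.unip fun _ => 1
    have h1 := hac.1 z hzW j
    rw [hcen s hs, ap_up] at h1
    have h2 := congrFun h1 0
    simp only [Matrix.cons_val_zero, one_mul] at h2
    exact left_eq_add.1 h2
  · refine e_inj (M := M) hzW (one_mem _) ?_
    rw [e_one]
    funext j'
    obtain ⟨s, hs, h1⟩ := M.trans j j'
    have h2 := (h1 z hzW).2 h0
    rwa [hcen s hs] at h2

/-- A full-support vector is conjugate to `z`. -/
theorem exists_conj (M : NatKM F S P V ⊥ k) (hPV : P ≤ normalizer (V : Set G)) (hZV : zc S ≤ V) {z : G}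
    (hz : z ∈ zc S) (hz1 : z ≠ 1) {v : G} (hv : v ∈ V) (h : ∀ j, M.e v j ≠ 0) : ∃ p ∈ P, v = p * z * p⁻¹ :=
  conj_of (M := M) hPV (hZV hz) hv (full_of_zc M hZV hz hz1).2 h

/-- A full-support vector lies in a point of the line. -/
theorem mem_pt (M : NatKM F S P V ⊥ k) (hPV : P ≤ normalizer (V : Set G)) (hZV : zc S ≤ V) (hZ1 : zc S ≠ ⊥)
    {v : G} (hv : v ∈ V) (h : ∀ j, M.e v j ≠ 0) : ∃ p ∈ P, v ∈ cj p (zc S) := by
  obtain ⟨z, hz, hz1⟩ := (zc S).bot_or_exists_ne_one.resolve_left hZ1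
  obtain ⟨p, hp, h1⟩ := exists_conj M hPV hZV hz hz1 hv h
  exact ⟨p, hp, h1 ▸ conj_mem_cj hz⟩

/-- `D` meets no point: `D ∩ V` has no vector with full support. -/
theorem exists_zero (M : NatKM F S P V ⊥ k) (hPV : P ≤ normalizer (V : Set G)) (hZV : zc S ≤ V)
    (hZ1 : zc S ≠ ⊥) (hk : 0 < k) {D : Subgroup G} (hD : ∀ p ∈ P, ∀ v ∈ cj p (zc S), v ∈ D → v = 1)
    {v : G} (hv : v ∈ V) (hvD : v ∈ D) : ∃ j, M.e v j = 0 := by
  by_contra hcon
  push Not at hcon
  obtain ⟨p, hp, h1⟩ := mem_pt M hPV hZV hZ1 hv hcon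
  have h2 := hD p hp v h1 hvD
  rw [h2, e_one] at hcon
  exact hcon ⟨0, hk⟩ rfl

/-- the `j`-th summand -/
def blk (M : NatKM F S P V ⊥ k) (j : Fin k) : Subgroup G where
  carrier := {v | v ∈ V ∧ ∀ l, l ≠ j → M.e v l = 0}
  one_mem' := ⟨one_mem _, fun l _ => by rw [e_one]; rfl⟩
  mul_mem' := fun {v w} hv hw => ⟨mul_mem hv.1 hw.1, fun l hl => by
    rw [M.mul v hv.1 w hw.1, Pi.add_apply, hv.2 l hl, hw.2 l hl, add_zero]⟩
  inv_mem' := fun {v} hv => ⟨inv_mem hv.1, fun l hl => by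
    rw [e_inv hv.1, Pi.neg_apply, hv.2 l hl, neg_zero]⟩

theorem mem_blk {M : NatKM F S P V ⊥ k} {j : Fin k} {v : G} :
    v ∈ blk M j ↔ v ∈ V ∧ ∀ l, l ≠ j → M.e v l = 0 := Iff.rfl

theorem blk_le {M : NatKM F S P V ⊥ k} (j : Fin k) : blk M j ≤ V := fun _ hv => hv.1

theorem card_blk (M : NatKM F S P V ⊥ k) (j : Fin k) : Nat.card (blk M j) = Nat.card F ^ 2 := by
  have h1 : Nat.card (blk M j) = Nat.card (Fin 2 → F) :=
    Nat.card_congr (Equiv.ofBijective (fun v : blk M j => M.e (v : G) j)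
      ⟨fun v w h => Subtype.ext (e_inj (M := M) v.2.1 w.2.1 (by
        funext l
        by_cases hl : l = j
        · subst hl; exact h
        · rw [v.2.2 l hl, w.2.2 l hl])), fun x => by
        obtain ⟨v, hv, h1, h2⟩ := NatR.exists_pt (M := M) j x
        exact ⟨⟨v, hv, h2⟩, h1⟩⟩)
  rw [h1, Nat.card_fun, Nat.card_fin]

/-- `D` meets all summands: it has a vector with full support. -/
theorem exists_full_of_blk (M : NatKM F S P V ⊥ k) {D : Subgroup G}
    (hD : ∀ j, ∃ v ∈ blk M j, v ∈ D ∧ v ≠ 1) : ∃ v ∈ V, v ∈ D ∧ ∀ j, M.e v j ≠ 0 := by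
  classical
  have key : ∀ s : Finset (Fin k), ∃ v ∈ V, v ∈ D ∧ (∀ j ∈ s, M.e v j ≠ 0) ∧ ∀ j, j ∉ s → M.e v j = 0 := by
    intro s
    induction s using Finset.induction_on with
    | empty => exact ⟨1, one_mem _, one_mem _, fun j hj => absurd hj (Finset.notMem_empty j),
        fun j _ => by rw [e_one]; rfl⟩
    | insert i s hi ih =>
      obtain ⟨v, hv, hvD, h1, h2⟩ := ih
      obtain ⟨w, ⟨hw, hw2⟩, hwD, hw1⟩ := hD i
      refine ⟨v * w, mul_mem hv hw, mul_mem hvD hwD, fun j hj => ?_, fun j hj => ?_⟩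
      · rw [M.mul v hv w hw, Pi.add_apply]
        by_cases hji : j = i
        · subst hji
          rw [h2 j hi, zero_add]
          intro h0
          refine hw1 (e_inj (M := M) hw (one_mem _) ?_)
          rw [e_one]
          funext l
          by_cases hl : l = j
          · rw [hl, h0]; rfl
          · rw [hw2 l hl]; rfl
        · rw [hw2 j hji, add_zero]
          exact h1 j ((Finset.mem_insert.1 hj).resolve_left hji)
      · rw [Finset.mem_insert, not_or] at hj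
        rw [M.mul v hv w hw, Pi.add_apply, h2 j hj.2, hw2 j hj.1, add_zero]
  obtain ⟨v, hv, hvD, h1, -⟩ := key Finset.univ
  exact ⟨v, hv, hvD, fun j => h1 j (Finset.mem_univ j)⟩

/-- `|V : V ∩ D| < |F|²`: `D` has a vector with full support. -/
theorem exists_full [Finite G] (M : NatKM F S P V ⊥ k) {D : Subgroup G} (hD : D.relIndex V < Nat.card F ^ 2) :
    ∃ v ∈ V, v ∈ D ∧ ∀ j, M.e v j ≠ 0 := by
  refine exists_full_of_blk M fun j => ?_
  by_contra hcon
  push Not at hcon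
  have h1 : D ⊓ blk M j = ⊥ := by
    rw [eq_bot_iff]
    exact fun v hv => mem_bot.2 (hcon v hv.2 hv.1)
  have h2 : D.relIndex (blk M j) = Nat.card F ^ 2 := by
    rw [← inf_relIndex_right, h1, relIndex_bot_left, card_blk]
  have h3 := relIndex_le_of_le_right (H := D) (blk_le (M := M) j) relIndex_ne
  omega

/-! ### The line `V^m` -/

theorem exists_full_cj [Finite G] (M : NatKM F S P V ⊥ k) (hPV : P ≤ normalizer (V : Set G)) (hZV : zc S ≤ V)
    {z : G} (hz : z ∈ zc S) (hz1 : z ≠ 1) {D : Subgroup G} {m : G} (hD : D.relIndex (cj m V) < Nat.card F ^ 2) :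
    ∃ p ∈ P, m * p * z * (m * p)⁻¹ ∈ D := by
  have h1 : (cj m⁻¹ D).relIndex V < Nat.card F ^ 2 := by
    have h2 : (cj m⁻¹ D).relIndex (cj m⁻¹ (cj m V)) = D.relIndex (cj m V) := by
      rw [cj, cj, relIndex_map_map_of_injective _ _ (MulAut.conj m⁻¹).injective]
    rw [← h2, cj_inv_cj] at hD
    exact hD
  obtain ⟨v, hv, hvD, h3⟩ := exists_full M h1
  obtain ⟨p, hp, h4⟩ := exists_conj M hPV hZV hz hz1 hv h3
  refine ⟨p, hp, ?_⟩
  have h5 := conj_mem_cj (g := m) hvD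
  rw [cj_cj_inv, h4] at h5
  convert h5 using 1
  group

/-- `D` meets a point of `V^m` if `|V^m : V^m ∩ D| < |F|²`. -/
theorem meets_cj [Finite G] (M : NatKM F S P V ⊥ k) (hPV : P ≤ normalizer (V : Set G)) (hZV : zc S ≤ V)
    (hZ1 : zc S ≠ ⊥) {D : Subgroup G} {m : G} (hD : D.relIndex (cj m V) < Nat.card F ^ 2) :
    ∃ p ∈ P, ∃ v ∈ cj (m * p) (zc S), v ∈ D ∧ v ≠ 1 := by
  obtain ⟨z, hz, hz1⟩ := (zc S).bot_or_exists_ne_one.resolve_left hZ1
  obtain ⟨p, hp, h⟩ := exists_full_cj M hPV hZV hz hz1 hD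
  exact ⟨p, hp, _, conj_mem_cj hz, h, fun h1 => hz1 (conj_eq_one_iff.1 h1)⟩

/-- The last line of (END): `V^m ≤ I`, `|I : D| ≤ q`, no point of `V^m` meets `D`. -/
theorem false_of_cj [Finite G] [Finite F] (M : NatKM F S P V ⊥ k) (hPV : P ≤ normalizer (V : Set G))
    (hZV : zc S ≤ V) (hZ1 : zc S ≠ ⊥) {D I : Subgroup G} {m : G} (hI : cj m V ≤ I)
    (hD : D.relIndex I ≤ Nat.card F) (hno : ∀ p ∈ P, ∀ v ∈ cj (m * p) (zc S), v ∈ D → v = 1) : False := by
  have h1 := relIndex_le_of_le_right (H := D) hI relIndex_ne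
  have h2 : 1 < Nat.card F := Finite.one_lt_card
  have h3 : D.relIndex (cj m V) < Nat.card F ^ 2 := by nlinarith
  obtain ⟨p, hp, v, hv, hvD, hv1⟩ := meets_cj M hPV hZV hZ1 h3
  exact hv1 (hno p hp v hv hvD)

end Cfsg.Agent.Omega.NOThreeL.Low.Full

end
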