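import Cfsg.Agent.Mrg.Omega.NOThreeL.NF.Main
import Cfsg.Agent.Mrg.Omega.NOThreeL.StarEnd
import Cfsg.Agent.Mrg.Omega.NOThreeL.NF.Nat
import Cfsg.Agent.Mrg.Omega.NOThreeL.NF.SymRp
import Cfsg.Agent.Mrg.Omega.NOThreeL.Merge
import Cfsg.Agent.Mrg.Omega.NO3b.Exit.LocalExit
import Cfsg.Agent.Mrg.Omega.NO3b.Union.Asm
import Cfsg.Agent.Mrg.Omega.NOThreeL.MergeNF

section


/-!
# THEOREM NF (#17343, helper863), final form

* `natRP`, `rp` : the interface `RP S P` for every `P ∈ P*(S)` with an offender on `V_P`;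
* `notFF` : in NO-3L with `C_Z(P) = 1` for all `P ∈ P*(S)`, `V* = ⟨Z^{⟨P*(S)⟩}⟩` is not FF;
* `vf` : THEOREM VF (`Merge.VF`).
-/

set_option autoImplicit false

namespace Cfsg.Agent.Omega.NOThreeL.NF

open Subgroup Cfsg
open Cfsg.Agent.ZN
open Cfsg.Agent.Omega.MinPar Cfsg.Agent.Omega.Frame Cfsg.Agent.Omega.FrameNOFF
open Cfsg.Agent.Omega.NO3b.EZero (NotFF)
open Cfsg.Agent.Omega.FFThm (OffM)
open Cfsg.Agent.Omega.NOThreeL.Star (YS)
open Cfsg.Agent.Omega.NOThreeL.Basic (DataZ)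

universe u

theorem natRP : NatRP.{u} := by
  intro G _ _ _ S P hP hcv _ F _ _ _ k _ M
  exact rp_of_natKM hP.le hcv M

variable {G : Type u} [Group G] [Finite G] {S : Sylow 2 G}

theorem rp (h : Ctx G) (D : DataZ (S : Subgroup G)) {P : Subgroup G} (hP : IsParS (S : Subgroup G) P)
    (hoff : ∃ A : Subgroup G, A ≤ P ∧ OffM (zl (S : Subgroup G) P) A) : RP (S : Subgroup G) P :=
  rp_of natRP symRP h D hP hoff

/-- **THEOREM NF.** -/
theorem notFF (h : Ctx G) (hF : Full (S : Subgroup G)) (D : DataZ (S : Subgroup G)) :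
    NotFF (zl (S : Subgroup G) (YS (S : Subgroup G))) :=
  nf h hF D fun _ hP hoff => rp h D hP hoff

/-- **THEOREM VF.** -/
theorem vf : Merge.VF.{u} :=
  Merge.VF.of_notFF fun _ _ _ h _ hF D => notFF h hF D

end Cfsg.Agent.Omega.NOThreeL.NF

end

section


/-!
# The common socket of NO-3L and NO-3S.NotFF reduces to the local exit

`S` a Sylow 2-subgroup, `HypG S M` (helper597's `Merge.lean`: `M ∈ L(S)` generated by members of `P*(S)`,
`⟨M, C_G(Z)⟩` nonlocal, `V_M = ⟨Z^M⟩ ≤ O₂(C_G(Z))` not FF).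

* `HypG.notFF`, `HypG.cs_le`, `HypG.root`, `HypG.nfRoot` : `V_M` is not FF in the strong sense, `C_S(V_M) ≤ O₂(M)`,
  the w.c. frame for `M`;
* `nfRoot_of_null` : NO-3L with `C_Z(P) = 1` for all `P ∈ P*(S)` and (L) : `NFRoot S ⟨P*(S)⟩` (THEOREM NF);
* `LocG S M B` : the local exit (#17095, #17287, #17387): `B` admissible with `|V|` maximal, `V = ⟨Z^{N_G(B)}⟩`,
  and for all `F ≥ Z` maximal in `V` with `C_G(F) ≰ N_G(V)`, `T = C_S(F)` Sylow in `C_G(F)` and all `X` minimal over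
  `T` in `C_G(F)` with `X ≰ N_G(V)` the group `⟨N_G(B), X⟩` is local and some `A ≤ B`, `A ≰ O₂(X)` offends on
  `⟨V^X⟩`;
* `exists_locG` : `LocG` exists (K0, FPB, THEOREM OFF);
* `LocExit K` : the local exit as a socket; `notFFG_of : LocExit K → Merge.NotFFG K`.
-/

set_option autoImplicit false

namespace Cfsg.Agent.Omega.NOThreeL.HypGFrame

open Subgroup Cfsg
open Cfsg.Agent.ZN hiding mem_zc le_normalizer_zl le_normalizer_o2 le_o2
open Cfsg.Agent.ZN.ChoiceBase hiding mem_zc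
open Cfsg.Agent.Omega.MinPar Cfsg.Agent.Omega.Frame Cfsg.Agent.Omega.FrameNOFF
open Cfsg.Agent.Omega.Node.NO3L
open Cfsg.Agent.Omega.NO3b.EZero (NotFF Par cl)
open Cfsg.Agent.Omega.NO3b.Alpha (Fl)
open Cfsg.Agent.Omega.NO3b.Exit (Adm Fr VB)
open Cfsg.Agent.Omega.FFThm (OffM)
open Cfsg.Agent.Omega.NOThreeL.Star (YS le_YS S_le_YS zl_mono)
open Cfsg.Agent.Omega.NOThreeL.Basic (DataZ)
open Cfsg.Agent.Omega.NOThreeL.Merge (HypG NotFFG)
open Cfsg.Agent.Omega.NOThreeL.MergeNF (NFRoot root_of_isLoc nfRoot)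
open Cfsg.Agent.MinSimple.VModule (le_normalizer_zl le_normalizer_o2 o2_isPGroup le_o2 zl_le zc_le_zl)

universe u

section

variable {G : Type u} [Group G] [Finite G] {S : Sylow 2 G}

/-- `C_S(V_M)` is normal in `M` if `M` is generated by members of `P*(S)`. -/
theorem le_norm_cs (hc : IsCharacteristicTwoType G) {M : Subgroup G}
    (gen : M ≤ sSup {P : Subgroup G | IsParS (S : Subgroup G) P ∧ P ≤ M}) :
    M ≤ normalizer (((S : Subgroup G) ⊓ centralizer (zl (S : Subgroup G) M : Set G) : Subgroup G) : Set G) := by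
  refine gen.trans (sSup_le ?_)
  rintro P ⟨hP, hPM⟩
  have hVP : zl (S : Subgroup G) P ≤ zl (S : Subgroup G) M := zl_mono _ hPM
  have key : ∀ p ∈ P, ∀ x ∈ (S : Subgroup G) ⊓ centralizer (zl (S : Subgroup G) M : Set G),
      p * x * p⁻¹ ∈ (S : Subgroup G) ⊓ centralizer (zl (S : Subgroup G) M : Set G) := by
    intro p hp x hx
    refine ⟨?_, ?_⟩
    · have h1 : x ∈ o2 P := mem_o2_of_cent hc S hP hx.1 (centralizer_le hVP hx.2)
      exact hP.isLoc.o2_le S ((mem_normalizer_iff.1 (le_normalizer_o2 P hp) x).1 h1)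
    · refine mem_centralizer_iff.2 fun v hv => ?_
      have h2 := (mem_normalizer_iff''.1 (le_normalizer_zl (S : Subgroup G) M (hPM hp)) v).1 hv
      have h3 := mem_centralizer_iff.1 hx.2 _ h2
      have e1 : v * (p * x * p⁻¹) = p * ((p⁻¹ * v * p) * x) * p⁻¹ := by group
      have e2 : p * x * p⁻¹ * v = p * (x * (p⁻¹ * v * p)) * p⁻¹ := by group
      rw [e1, e2, h3]
  intro p hp
  rw [mem_normalizer_iff]
  intro x
  refine ⟨key p hp x, fun hx => ?_⟩
  have h1 := key p⁻¹ (P.inv_mem hp) _ hx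
  have e : p⁻¹ * (p * x * p⁻¹) * p⁻¹⁻¹ = x := by group
  rwa [e] at h1

namespace HypG

variable {M : Subgroup G} (h : HypG S M)
include h

theorem notFF : NotFF (zl (S : Subgroup G) M) := NO3b.Final.notFF_of h.loc.le h.nff

theorem cs_le : (S : Subgroup G) ⊓ centralizer (zl (S : Subgroup G) M : Set G) ≤ o2 M :=
  le_o2 (inf_le_left.trans h.loc.le) (S.isPGroup'.to_le inf_le_left) (le_norm_cs h.ctx.char2 h.gen)

theorem root : NO3b.Wc.Root S M := root_of_isLoc h.ctx.char2 h.loc (cs_le h) (notFF h)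

theorem nfRoot : NFRoot (S : Subgroup G) M := ⟨h.loc, cs_le h, h.lowM, notFF h, h.nonLoc⟩

end HypG

/-- NO-3L with `C_Z(P) = 1` for all `P ∈ P*(S)` and (L) is inside the frame. -/
theorem nfRoot_of_null (h : Ctx G) (hF : Full (S : Subgroup G)) (D : DataZ (S : Subgroup G))
    (hL : MutLine.NullF (S : Subgroup G) (PS (S : Subgroup G))) :
    NFRoot (S : Subgroup G) (YS (S : Subgroup G)) :=
  nfRoot h hF D.toData hL (NF.notFF h hF D)

/-- THEOREM VF and (L) give `HypG S ⟨P*(S)⟩`. -/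
theorem hypG_of_null (h : Ctx G) (hF : Full (S : Subgroup G)) (D : DataZ (S : Subgroup G))
    (hL : MutLine.NullF (S : Subgroup G) (PS (S : Subgroup G))) : HypG S (Merge.MZ (S : Subgroup G)) :=
  Merge.HypG.of_data h hF D.toData (MergeNF.YS_low h.char2 D.toData hL (h.exists_isParS hF))
    (NF.vf G h S hF D)

/-- **The local exit.** -/
structure LocG (S : Sylow 2 G) (M B : Subgroup G) : Prop where
  adm : Adm S M B
  max : ∀ B' : Subgroup G, Adm S M B' → Nat.card (VB (S : Subgroup G) B') ≤ Nat.card (VB (S : Subgroup G) B)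
  min : ∀ B' : Subgroup G, Adm S M B' → B' ≤ B → B' = B
  le : M ≤ normalizer (B : Set G)
  nz : ¬ centralizer (zc (S : Subgroup G) : Set G) ≤ normalizer (VB (S : Subgroup G) B : Set G)
  ex : ∃ F T X : Subgroup G, Fl S (VB (S : Subgroup G) B) F T ∧ zc (S : Subgroup G) ≤ F ∧
    Par (VB (S : Subgroup G) B) F T X
  loc : ∀ F T X : Subgroup G, Fl S (VB (S : Subgroup G) B) F T → zc (S : Subgroup G) ≤ F →
    Par (VB (S : Subgroup G) B) F T X →
      ∃ R : Subgroup G, R ≠ ⊥ ∧ IsPGroup 2 R ∧ normalizer (B : Set G) ⊔ X ≤ normalizer (R : Set G)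
  fr : ∀ F T X : Subgroup G, Fl S (VB (S : Subgroup G) B) F T → zc (S : Subgroup G) ≤ F →
    Par (VB (S : Subgroup G) B) F T X → Fr S B (normalizer (B : Set G) ⊔ X) X T
  off : ∀ F T X : Subgroup G, Fl S (VB (S : Subgroup G) B) F T → zc (S : Subgroup G) ≤ F →
    Par (VB (S : Subgroup G) B) F T X → ∃ A : Subgroup G, A ≤ B ∧ ¬ A ≤ o2 X ∧
      OffM (cl (VB (S : Subgroup G) B) X) A

/-- **The frame ends in the local exit.** -/
theorem exists_locG (hG : IsCharacteristicTwoType G) (hSne : (S : Subgroup G) ≠ ⊥) {M : Subgroup G}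
    (r : NFRoot (S : Subgroup G) M) : ∃ B, LocG S M B := by
  have hOff := NO3b.Final.stmtOff G
  have hZne : zc (S : Subgroup G) ≠ ⊥ := MinSimple.Basic.zc_ne_bot S.isPGroup' hSne
  have hroot := r.root hG
  obtain ⟨B, a, hmax⟩ := Set.exists_max_image {B : Subgroup G | Adm S M B}
    (fun B => Nat.card (VB (S : Subgroup G) B)) (Set.toFinite _)
    ⟨_, Adm.of_root hroot (r.low_V hG hOff hZne)⟩
  have hmin : ∀ B' : Subgroup G, Adm S M B' → B' ≤ B → B' = B := by
    intro B' a' hle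
    have h1 : normalizer (B : Set G) ≤ normalizer (B' : Set G) := by
      intro g hg
      rw [mem_normalizer_iff_cj]
      refine a'.wc.eq g ?_
      have h2 := cj_mono g hle
      rw [cj_eq_of_mem_normalizer hg] at h2
      exact h2.trans a.wc.le
    have h2 : VB (S : Subgroup G) B = VB (S : Subgroup G) B' :=
      eq_of_le_of_card_ge (zl_mono _ h1) (hmax B' a')
    rw [← a'.cs, ← a.cs, h2]
  have hLB := NO3b.Exit.L_le_norm hroot a.wc a.le
  have hnz : ¬ centralizer (zc (S : Subgroup G) : Set G) ≤ normalizer (VB (S : Subgroup G) B : Set G) := by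
    intro h1
    have h2 := r.nonloc _ (NO3b.NoEmp.pgroup_of_sq a.sq) (hLB.trans (le_normalizer_zl _ _)) h1
    exact hZne (le_bot_iff.1 (a.lines.ZV.trans h2.le))
  have hloc : ∀ F T X : Subgroup G, Fl S (VB (S : Subgroup G) B) F T → zc (S : Subgroup G) ≤ F →
      Par (VB (S : Subgroup G) B) F T X →
        ∃ R : Subgroup G, R ≠ ⊥ ∧ IsPGroup 2 R ∧ normalizer (B : Set G) ⊔ X ≤ normalizer (R : Set G) := by
    intro F T X f hZF p
    obtain ⟨R, h1, h2, h3, h4⟩ := NO3b.AlphaEnd.exists_loc f a.lines FFBr.aStmt FFBr.ffthm hG hZF p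
    rw [a.cs] at h3
    exact ⟨R, h1, h2, sup_le h3 h4⟩
  have hfr : ∀ F T X : Subgroup G, Fl S (VB (S : Subgroup G) B) F T → zc (S : Subgroup G) ≤ F →
      Par (VB (S : Subgroup G) B) F T X → Fr S B (normalizer (B : Set G) ⊔ X) X T := by
    intro F T X f hZF p
    obtain ⟨R, hR, hR2, h3⟩ := hloc F T X f hZF p
    have hQ := f.Q0_le
    rw [a.cs] at hQ
    exact
      { NB := le_sup_left
        XH := le_sup_right
        gen := le_rfl
        char2 := NO3b.Exit.char2_of_loc hG ((NO3b.Exit.wc_S_le a.wc).trans le_sup_left) hR2 hR h3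
        TS := f.T_le
        BT := hQ
        syl := f.sylX p
        mp := f.isMinPar a.lines p
        XZ := p.le.trans (centralizer_le hZF)
        nle := p.nle }
  obtain ⟨F, T, f, hZF⟩ := NO3b.Alpha.exists_fl_zc a.lines hnz
  obtain ⟨X, p⟩ := f.exists_par
  exact ⟨B, a, hmax, hmin, hLB, hnz, ⟨F, T, X, f, hZF, p⟩, hloc, hfr, fun F T X f hZF p =>
    (hfr F T X f hZF p).exists_off a hG hOff hSne hmin⟩

end

/-- **The local exit** (socket). -/
def LocExit (K : Cls.{u}) : Prop :=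
  ∀ (G : Type u) [Group G] [Finite G], K G → ∀ (S : Sylow 2 G) (M : Subgroup G), HypG S M →
    NFRoot (S : Subgroup G) M → ∀ B : Subgroup G, LocG S M B → IsKnownSimple' G

/-- **The common socket from the local exit.** -/
theorem notFFG_of {K : Cls.{u}} (h : LocExit K) : NotFFG K := by
  intro G _ _ hK S M H
  obtain ⟨B, hB⟩ := exists_locG H.ctx.char2 (H.ctx.sylow_ne_bot S) (HypG.nfRoot H)
  exact h G hK S M H (HypG.nfRoot H) B hB

/-- NO-3S.NotFF from the local exit. -/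
theorem notFF_of {K : Cls.{u}} (h : LocExit K) : NO3S.NotFF K := Merge.notFF_of (notFFG_of h)

end Cfsg.Agent.Omega.NOThreeL.HypGFrame

end
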