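import Cfsg.Agent.Mrg.Omega.NOThreeL.NF.Line


/-!
# THEOREM NF (#17343), (5), (6)

`V = VS S`, `A ≤ S` optimal on `V`, `P ∈ P*(S)` with `[V_P, A] ≠ 1`.

* `JO S` : the product of all optimal `B ≤ S`; `Mv.mv` : all of them move `V_P`;
* `Mv.conj` : **(6)** `z ∈ Z#`, `y ∈ N_G(V)`, `z^y ∈ V_P` implies `z^y ∈ z^P`.
-/

set_option autoImplicit false

namespace Cfsg.Agent.Omega.NOThreeL.NF

open Subgroup Cfsg
open Cfsg.Agent.ZN Cfsg.Agent.ZN.ChoiceBase
open Cfsg.Agent.Omega.MinPar Cfsg.Agent.Omega.Frame Cfsg.Agent.Omega.FrameNOFF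
open Cfsg.Agent.Omega.NO3b.EZero (NotFF cent_symm cj_cent cj_norm)
open Cfsg.Agent.Omega.FFThm (ElemM OffM NoOverM ConclM)
open Cfsg.Agent.Omega.NOThreeL.Star
open Cfsg.Agent.MinSimple.VModule (mem_zc zc_le zc_sq zc_comm le_centralizer_zc zc_le_zl zl_le
  le_normalizer_zl normalizer_le_normalizer_zc le_normalizer_o2 o2_isPGroup o2_le)
open scoped commutatorElement

universe u

variable {G : Type u} [Group G]

/-- The product of all optimal `B ≤ S`. -/
def JO (S : Subgroup G) : Subgroup G := ⨆ B : {B : Subgroup G // Opt (VS S) B ∧ B ≤ S}, (B : Subgroup G)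

theorem le_JO {S B : Subgroup G} (hB : Opt (VS S) B) (hBS : B ≤ S) : B ≤ JO S :=
  le_iSup (fun B : {B : Subgroup G // Opt (VS S) B ∧ B ≤ S} => (B : Subgroup G)) ⟨B, hB, hBS⟩

theorem JO_le {S C : Subgroup G} (h : ∀ B, Opt (VS S) B → B ≤ S → B ≤ C) : JO S ≤ C :=
  iSup_le fun B => h B B.2.1 B.2.2

theorem JO_le_self (S : Subgroup G) : JO S ≤ S := JO_le fun _ _ h => h

variable [Finite G] {S : Sylow 2 G} {P P' A B : Subgroup G}

section

variable (h : Sit S) (m : Mv S P A)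
include h m

theorem Mv.mv (hB : Opt (VS (S : Subgroup G)) B) (hBS : B ≤ (S : Subgroup G)) : Mv S P B :=
  ⟨m.par, hBS, hB, m.ne_cent h hB hBS⟩

/-- `[V, B]` is a point for every optimal `B ≤ S` -/
theorem Mv.mem_pts (hB : Opt (VS (S : Subgroup G)) B) (hBS : B ≤ (S : Subgroup G)) :
    ⁅VS (S : Subgroup G), B⁆ ∈ pts (zl (S : Subgroup G) P) S A := by
  have m' := m.mv h hB hBS
  obtain ⟨s, hs, he⟩ := (m.rp h).conj A B (m.minOff h) (m'.minOff h)
  refine ⟨s, hs, ?_⟩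
  rw [m'.comm_eq h, he]

/-- every point is `[V, B]` for an optimal `B ≤ S` -/
theorem Mv.exists_of_mem_pts {R : Subgroup G} (hR : R ∈ pts (zl (S : Subgroup G) P) S A) :
    ∃ B, Opt (VS (S : Subgroup G)) B ∧ B ≤ (S : Subgroup G) ∧ R = ⁅VS (S : Subgroup G), B⁆ := by
  obtain ⟨s, hs, rfl⟩ := hR
  have hsV := h.S_norm hs
  refine ⟨cj s A, m.opt.cj hsV, ?_, ?_⟩
  · have h1 := cj_mono s m.le
    rwa [cj_eq_of_mem_normalizer (le_normalizer hs)] at h1
  · rw [← m.comm_eq h]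
    conv_rhs => rw [← cj_eq_of_mem_normalizer hsV]
    exact Subgroup.map_commutator _ _ _

theorem Mv.sup_pts_le : sSup (pts (zl (S : Subgroup G) P) S A) ≤ centralizer (JO (S : Subgroup G) : Set G) := by
  refine sSup_le ?_
  rintro _ ⟨s, hs, rfl⟩
  refine cent_symm (JO_le fun B hB hBS => cent_symm ?_)
  exact (m.rp h).cent A B (m.minOff h) ((m.mv h hB hBS).minOff h) s hs

/-- an element of `N_G(V)` which normalises `JO` permutes the points -/
theorem Mv.cj_mem_pts {u : G} (huV : u ∈ normalizer (VS (S : Subgroup G) : Set G))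
    (hu : cj u (JO (S : Subgroup G)) ≤ JO (S : Subgroup G)) {R : Subgroup G}
    (hR : R ∈ pts (zl (S : Subgroup G) P) S A) : cj u R ∈ pts (zl (S : Subgroup G) P) S A := by
  obtain ⟨B, hB, hBS, rfl⟩ := m.exists_of_mem_pts h hR
  have h1 : cj u B ≤ (S : Subgroup G) :=
    ((cj_mono u (le_JO hB hBS)).trans hu).trans (JO_le_self _)
  have h2 : cj u ⁅VS (S : Subgroup G), B⁆ = ⁅VS (S : Subgroup G), cj u B⁆ := by
    conv_rhs => rw [← cj_eq_of_mem_normalizer huV]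
    exact Subgroup.map_commutator _ _ _
  rw [h2]
  exact m.mem_pts h (hB.cj huV) h1

omit m in
theorem cj_JO_eq {u : G} (huV : u ∈ normalizer (VS (S : Subgroup G) : Set G))
    (hu : cj u (JO (S : Subgroup G)) ≤ (S : Subgroup G)) : cj u (JO (S : Subgroup G)) = JO (S : Subgroup G) := by
  have h1 : cj u (JO (S : Subgroup G)) ≤ JO (S : Subgroup G) := by
    rw [cj_le_iff]
    refine JO_le fun B hB hBS => ?_
    rw [← cj_le_iff]
    exact le_JO (hB.cj huV) ((cj_mono u (le_JO hB hBS)).trans hu)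
  exact Subgroup.eq_of_le_of_card_ge h1 (card_cj u _).ge

/-- **(6)** -/
theorem Mv.conj {z y : G} (hz : z ∈ zc (S : Subgroup G)) (hz1 : z ≠ 1)
    (hy : y ∈ normalizer (VS (S : Subgroup G) : Set G)) (hv : y * z * y⁻¹ ∈ zl (S : Subgroup G) P) :
    ∃ p ∈ P, y * z * y⁻¹ = p * z * p⁻¹ := by
  obtain ⟨p, hp, hpR⟩ := (m.rp h).toR A (m.minOff h) _ hv
  have hpV := par_norm m.par hp
  set x := p * y with hx
  have hxV : x ∈ normalizer (VS (S : Subgroup G) : Set G) := mul_mem hpV hy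
  have hxz : x * z * x⁻¹ ∈ sSup (pts (zl (S : Subgroup G) P) S A) := by
    have e : x * z * x⁻¹ = p * (y * z * y⁻¹) * p⁻¹ := by rw [hx]; group
    rwa [e]
  -- `JO^{x⁻¹} ≤ C(z)`
  set K := normalizer (VS (S : Subgroup G) : Set G) ⊓ centralizer ({z} : Set G) with hK
  have hSK : (S : Subgroup G) ≤ K := by
    refine le_inf h.S_norm fun s hs => ?_
    rw [mem_centralizer_singleton_iff]
    exact (Cfsg.Agent.MinSimple.VModule.mem_zc.1 hz).2.1 s hs
  have hJK : cj x⁻¹ (JO (S : Subgroup G)) ≤ K := by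
    refine le_inf ?_ ?_
    · have h1 := cj_mono x⁻¹ ((JO_le_self (S : Subgroup G)).trans h.S_norm)
      rwa [cj_eq_of_mem_normalizer (le_normalizer (inv_mem hxV))] at h1
    · rintro _ ⟨j, hj, rfl⟩
      change x⁻¹ * j * x⁻¹⁻¹ ∈ _
      rw [mem_centralizer_singleton_iff]
      have h1 := mem_centralizer_iff.1 (m.sup_pts_le h hxz) j hj
      have e1 : x⁻¹ * j * x⁻¹⁻¹ * z = x⁻¹ * (j * (x * z * x⁻¹)) * x := by group
      have e2 : z * (x⁻¹ * j * x⁻¹⁻¹) = x⁻¹ * ((x * z * x⁻¹) * j) * x := by group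
      rw [e1, e2, h1]
  obtain ⟨n, hn, hnS⟩ := FFThm.exists_conj_le S hSK (isPGroup_cj x⁻¹ (S.isPGroup'.to_le (JO_le_self _))) hJK
  rw [cj_cj] at hnS
  set g := n * x⁻¹ with hg
  have hgV : g ∈ normalizer (VS (S : Subgroup G) : Set G) := mul_mem hn.1 (inv_mem hxV)
  have hgJ := cj_JO_eq h hgV hnS
  have hgJ' : cj g⁻¹ (JO (S : Subgroup G)) = JO (S : Subgroup G) := by
    conv_lhs => rw [← hgJ]
    exact cj_inv_cj _ _
  have hnz : n * z = z * n := mem_centralizer_singleton_iff.1 hn.2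
  have hgz : g⁻¹ * z * g = x * z * x⁻¹ := by
    have e : g⁻¹ * z * g = x * (n⁻¹ * (z * n)) * x⁻¹ := by rw [hg]; group
    rw [e, ← hnz]; group
  have hzf := (m.rp h).zfull A (m.minOff h) z hz hz1
  obtain ⟨p', hp', he⟩ := (m.rp h).full A (m.minOff h) z hz hz1 _ hxz (by
    intro r hr hcon
    have h1 := m.cj_mem_pts h hgV hgJ.le hr
    apply hzf.2 _ h1
    rw [← hgz] at hcon
    have h2 : sSup (pts (zl (S : Subgroup G) P) (S : Subgroup G) A \ {r}) ≤
        cj g⁻¹ (sSup (pts (zl (S : Subgroup G) P) (S : Subgroup G) A \ {cj g r})) := by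
      refine sSup_le fun t ht => ?_
      have h3 : cj g t ≤ sSup (pts (zl (S : Subgroup G) P) (S : Subgroup G) A \ {cj g r}) := by
        refine le_sSup ⟨m.cj_mem_pts h hgV hgJ.le ht.1, fun h4 => ht.2 ?_⟩
        have h5 := congrArg (cj g⁻¹) h4
        rwa [cj_inv_cj, cj_inv_cj] at h5
      have h4 := cj_mono g⁻¹ h3
      rwa [cj_inv_cj] at h4
    have h3 := mem_cj.1 (h2 hcon)
    have e : g⁻¹⁻¹ * (g⁻¹ * z * g) * g⁻¹ = z := by group
    rwa [e] at h3)
  refine ⟨p⁻¹ * p', mul_mem (inv_mem hp) hp', ?_⟩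
  have e : y * z * y⁻¹ = p⁻¹ * (x * z * x⁻¹) * p := by rw [hx]; group
  rw [e, he]; group

end

end Cfsg.Agent.Omega.NOThreeL.NF
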