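import Cfsg.Agent.Mrg.Omega.NOThreeL.NF.SymBase
import Cfsg.Agent.Mrg.Omega.NOThreeL.Merge
import Cfsg.Agent.Mrg.Omega.Half.Basic
import Cfsg.Agent.Mrg.Omega.NOThreeL.Star

section


/-!
# THEOREM NF: the interface `RP` for even-subset modules (#17343, helper863)

`rp_of_symKM` : `P ∈ L(S)`, `V_P` of type `S_{2^m+1}^k` (`SymKM`), `C_{V_P}(O²(P)) = 1` imply `RP S P`.
A minimal offender acts as one transposition `(p q)`, `[V, A] = {p, q}`, the points `pts` are the `2^(m-1) k` pairs
`{p, q}` with `(p q)` in `S`, `z ∈ Z#` is the set of all nonzero points.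
-/

set_option autoImplicit false

namespace Cfsg.Agent.Omega.NOThreeL.NF.SymRP

open Subgroup Cfsg Cfsg.Agent.ZN Cfsg.Agent.ZN.ChoiceBase
open Cfsg.Agent.Omega.FFThm (ElemM OffM NoOverM ConclM SymK SymKM ActsSym)
open Cfsg.Agent.Omega.Half (Amb)
open Cfsg.Agent.Omega.Half.SymA
open Cfsg.Agent.Omega.NOThreeL.FourLine (mem_zpowers_iff)
open scoped Classical commutatorElement

universe u

variable {G : Type u} [Group G]

/-! ### Index two -/

theorem rel_le_two {K L : Subgroup G} (h : ∀ a ∈ L, ∀ b ∈ L, a ∉ K → b ∉ K → a * b ∈ K) : K.relIndex L ≤ 2 := by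
  by_cases h1 : L ≤ K
  · rw [relIndex_eq_one.2 h1]; norm_num
  · obtain ⟨a, ha, haK⟩ := SetLike.not_le_iff_exists.1 h1
    refine (Subgroup.index_eq_two_iff.2 ⟨⟨a, ha⟩, fun b => ?_⟩).le
    by_cases hb : b ∈ K.subgroupOf L
    · refine Or.inr ⟨hb, fun h2 => haK ?_⟩
      have h3 := (mul_mem_cancel_left hb).1 h2
      exact h3
    · exact Or.inl ⟨mem_subgroupOf.2 (h _ b.2 _ ha hb haK), hb⟩

theorem mul_inv_mem_of_le_two {K L : Subgroup G} [Finite G] (h : K.relIndex L ≤ 2) {a b : G} (ha : a ∈ L) (hb : b ∈ L)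
    (haK : a ∉ K) (hbK : b ∉ K) : a * b⁻¹ ∈ K := by
  have h1 : K.relIndex L = 2 := by
    have h2 : K.relIndex L ≠ 0 := FiniteIndex.index_ne_zero (H := K.subgroupOf L)
    have h3 : K.relIndex L ≠ 1 := fun h0 => haK (relIndex_eq_one.1 h0 ha)
    omega
  have h2 := (Subgroup.mul_mem_iff_of_index_two (H := K.subgroupOf L) h1 (a := ⟨a, ha⟩) (b := ⟨b, hb⟩⁻¹)).2
    (iff_of_false haK fun h3 => hbK (inv_mem_iff.1 h3))
  exact h2

/-! ### The minimal offender -/

section ad

variable {S : Sylow 2 G} {P V : Subgroup G} {k m : ℕ}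

/-- `A ≤ S` acts as the transposition `(p q)` -/
structure AD (M : SymK (S : Subgroup G) P V ⊥ k m) (A : Subgroup G) (p q : Pt k m) : Prop where
  le : A ≤ (S : Subgroup G)
  sw : Sw M p q
  ex : ∃ b ∈ A, Mv M b (Equiv.swap p q)
  all : ∀ a ∈ A, a ∈ centralizer (V : Set G) ∨ Mv M a (Equiv.swap p q)

variable [Finite G]

/-- a minimal offender acts as one transposition -/
theorem exists_ad (M : SymKM (S : Subgroup G) P V ⊥ k m) (hA : Amb (S : Subgroup G) P V) (hm : 1 ≤ m)
    {A : Subgroup G} (h : MinOffM V (S : Subgroup G) A) :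
    (∃ p q, AD M.toSymK A p q) ∧ (centralizer (V : Set G)).relIndex A = 2 := by
  set N := M.toSymK with hN
  obtain ⟨-, hoff⟩ := M.offM A h.le h.off
  have hAP : A ≤ P := h.le.trans hA.TH
  -- a transposition
  obtain ⟨p, q, hpq, hpq1, b, hb, hπ⟩ : ∃ p q : Pt k m, p ≠ q ∧ p.1 = q.1 ∧ ∃ b ∈ A, Mv N b (Equiv.swap p q) := by
    by_contra hcon
    apply h.off.ne
    intro a ha
    obtain ⟨τ, hτ, hb⟩ := hoff a ha
    rw [mem_cent_iff hA (hAP ha) hm (mv_pm N hτ)]
    ext1 ⟨i, x⟩
    by_contra hne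
    have hix : τ i x ≠ x := fun h0 => hne (Prod.ext rfl h0)
    obtain ⟨-, b, hbA, hb⟩ := hb i x hix
    have h1 := mv_pm N hb
    have h2 := pm_swap (k := k) (m := m) (p := (i, x)) (q := (i, τ i x)) rfl
    change pm 1 (Function.update 1 i (Equiv.swap x (τ i x))) = _ at h2
    rw [h2] at h1
    exact hcon ⟨(i, x), (i, τ i x), fun h0 => hix (congrArg Prod.snd h0).symm, rfl, b, hbA, h1⟩
  have hbP : b ∈ P := hAP hb
  have hsw : Sw N p q := ⟨hpq, hpq1, b, h.le hb, hπ⟩
  have hbn : b ∉ centralizer (V : Set G) := fun h0 => by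
    rw [mem_cent_iff hA hbP hm hπ] at h0
    exact hpq (Equiv.swap_eq_one_iff.1 h0)
  -- `⟨b⟩` is an offender
  have hb2 : b ^ 2 ∈ centralizer (V : Set G) := h.off.sq b hb
  have hz : ∀ x ∈ zpowers b, x ∈ centralizer (V : Set G) ∨ x * b ∈ centralizer (V : Set G) := by
    rintro x ⟨n, rfl⟩
    have key : ∀ j : ℤ, b ^ (2 * j) ∈ centralizer (V : Set G) := fun j => by
      rw [zpow_mul]
      exact zpow_mem (by exact_mod_cast hb2) j
    rcases Int.even_or_odd n with ⟨j, hj⟩ | ⟨j, hj⟩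
    · left
      have : n = 2 * j := by omega
      simp only [this]
      exact key j
    · right
      have : b ^ n * b = b ^ (2 * (j + 1)) := by rw [← zpow_add_one, hj]; congr 1; ring
      simp only [this]
      exact key _
  have hrB : (centralizer (V : Set G)).relIndex (zpowers b) ≤ 2 := by
    refine rel_le_two fun x hx y hy hxn hyn => ?_
    have h1 := (hz x hx).resolve_left hxn
    have h2 := (hz y hy).resolve_left hyn
    have hcm : b * y = y * b := by
      obtain ⟨j, rfl⟩ := hy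
      exact (Commute.self_zpow b j)
    have e : x * y = (x * b) * (y * b) * (b ^ 2)⁻¹ := by
      have : x * b * (y * b) = x * (b * y) * b := by group
      rw [this, hcm, pow_two]; group
    rw [e]
    exact mul_mem (mul_mem h1 h2) (inv_mem hb2)
  have hsub : zpowers b ≤ A := zpowers_le.2 hb
  have hBne : ¬ zpowers b ≤ centralizer (V : Set G) := fun h0 => hbn (h0 (mem_zpowers b))
  have hoffB : OffM V (zpowers b) := by
    refine ⟨⟨fun a ha => h.off.sq a (hsub ha), fun a ha c hc => h.off.comm a (hsub ha) c (hsub hc)⟩, hBne, ?_⟩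
    rw [FFThm.relIndex_le_iff]
    have h1 : (centralizer ((zpowers b : Subgroup G) : Set G)).relIndex V ≤ 2 := by
      have hiff : ∀ v ∈ V, v ∈ centralizer ((zpowers b : Subgroup G) : Set G) ↔ E N v p = E N v q := by
        intro v hv
        constructor
        · intro h1
          refine eq_of_comm hπ hv ?_
          rw [mem_centralizer_iff.1 h1 b (mem_zpowers b), mul_inv_cancel_right]
        · intro h1
          have h2 := comm_of_eq hA hbP hπ hv h1
          rw [mul_inv_eq_iff_eq_mul] at h2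
          rw [← zpowers_le, le_centralizer_iff, zpowers_le, mem_centralizer_iff]
          rintro _ ⟨j, rfl⟩
          have h3 : Commute b v := h2
          exact (h3.zpow_right j).eq.symm
      refine rel_le_two fun v hv w hw h1 h2 => ?_
      rw [hiff v hv] at h1
      rw [hiff w hw] at h2
      rw [hiff _ (mul_mem hv hw), E_mul N hv hw, E_mul N hv hw]
      revert h1 h2
      generalize E N v p = a
      generalize E N v q = b
      generalize E N w p = c
      generalize E N w q = d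
      revert a b c d
      decide
    have h2 : 2 ≤ (centralizer (V : Set G)).relIndex (zpowers b) := by
      have h2 : (centralizer (V : Set G)).relIndex (zpowers b) ≠ 0 :=
        FiniteIndex.index_ne_zero (H := (centralizer (V : Set G)).subgroupOf (zpowers b))
      have h3 : (centralizer (V : Set G)).relIndex (zpowers b) ≠ 1 := fun h0 => hBne (relIndex_eq_one.1 h0)
      omega
    exact h1.trans h2
  have hrA : (centralizer (V : Set G)).relIndex A ≤ 2 := (h.min _ hsub hoffB).trans hrB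
  refine ⟨⟨p, q, h.le, hsw, ⟨b, hb, hπ⟩, fun a ha => ?_⟩, ?_⟩
  · by_cases hac : a ∈ centralizer (V : Set G)
    · exact Or.inl hac
    · right
      have h1 := mul_inv_mem_of_le_two hrA ha hb hac hbn
      have h2 : Mv N (a * b⁻¹) 1 := by
        intro v hv r
        rw [← mem_centralizer_iff.1 h1 v hv, mul_inv_cancel_right]
        rfl
      have h3 := h2.mul hA hπ hbP
      rwa [inv_mul_cancel_right, one_mul] at h3
  · have h2 : (centralizer (V : Set G)).relIndex A ≠ 0 :=
      FiniteIndex.index_ne_zero (H := (centralizer (V : Set G)).subgroupOf A)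
    have h3 : (centralizer (V : Set G)).relIndex A ≠ 1 := fun h0 => h.off.ne (relIndex_eq_one.1 h0)
    omega

variable {M : SymK (S : Subgroup G) P V ⊥ k m} (hA : Amb (S : Subgroup G) P V) (hm : 1 ≤ m)
  {A : Subgroup G} {p q : Pt k m}
include hA

omit [Finite G] in
/-- `[V, A] = {p, q}` -/
theorem AD.comm_eq (hm : 1 ≤ m) (h : AD M A p q) {c : G} (hc : IsC M c p q) : ⁅V, A⁆ = zpowers c := by
  have hAP : A ≤ P := h.le.trans hA.TH
  apply le_antisymm
  · rw [commutator_le]
    intro w hw a ha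
    rcases h.all a ha with h1 | h1
    · have h2 : ⁅w, a⁆ = 1 := by
        rw [commutatorElement_eq_one_iff_mul_comm]
        exact mem_centralizer_iff.1 h1 w hw
      rw [h2]
      exact one_mem _
    · rcases commutator_eq hA h.sw.1 (hAP ha) h1 hw hc with h2 | h2
      · rw [h2]; exact one_mem _
      · rw [h2]; exact mem_zpowers c
  · rw [zpowers_le]
    obtain ⟨b, hb, hπ⟩ := h.ex
    obtain ⟨w, hw, h1, h2⟩ := sep M hm h.sw.1
    have h3 : ⁅w, b⁆ = c := by
      rcases commutator_eq hA h.sw.1 (hAP hb) hπ hw hc with h3 | h3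
      · exfalso
        rw [commutatorElement_eq_one_iff_mul_comm] at h3
        have h4 : E M w p = E M w q := eq_of_comm hπ hw (by rw [← h3, mul_inv_cancel_right])
        rw [h1, h2] at h4
        exact one_ne_zero h4
      · exact h3
    rw [← h3]
    exact commutator_mem_commutator hw hb

omit hA [Finite G] in
theorem cj_zpowers (s c : G) : cj s (zpowers c) = zpowers (s * c * s⁻¹) := by
  rw [cj, MonoidHom.map_zpowers]
  rfl

/-- the points are the pairs `{a, b}` with `(a b)` in `S` -/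
theorem AD.mem_pts (hm : 1 ≤ m) (h : AD M A p q) {r : Subgroup G} : r ∈ pts V (S : Subgroup G) A ↔
    ∃ a b c, Sw M a b ∧ IsC M c a b ∧ r = zpowers c := by
  obtain ⟨c₀, hc₀⟩ := exists_isC (M := M) h.sw.2.1
  have hcm := h.comm_eq hA hm hc₀
  constructor
  · rintro ⟨s, hs, rfl⟩
    obtain ⟨π, hπ, -⟩ := exists_mv (M := M) (hA.TH hs)
    refine ⟨π p, π q, s * c₀ * s⁻¹, h.sw.conj hA hm hs hπ, hc₀.conj hA (hA.TH hs) hπ, ?_⟩
    rw [hcm, cj_zpowers]
  · rintro ⟨a, b, c, hsw, hc, rfl⟩
    obtain ⟨s, hs, π, hπ, h1, h2⟩ := exists_conj hA hm h.sw hsw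
    refine ⟨s, hs, ?_⟩
    have h3 := hc₀.conj hA (hA.TH hs) hπ
    rw [h1, h2] at h3
    rw [hcm, cj_zpowers, hc.eq h3]

/-- `R = ⟨points⟩` -/
theorem AD.mem_R (hm : 1 ≤ m) (h : AD M A p q) {v : G} : v ∈ sSup (pts V (S : Subgroup G) A) ↔
    v ∈ V ∧ (∀ a b, Sw M a b → E M v a = E M v b) ∧ ∀ a : Pt k m, a.2 = 0 → E M v a = 0 := by
  constructor
  · intro hv
    let K : Subgroup G :=
      { carrier := {v | v ∈ V ∧ (∀ a b, Sw M a b → E M v a = E M v b) ∧ ∀ a : Pt k m, a.2 = 0 → E M v a = 0}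
        one_mem' := ⟨one_mem _, fun a b _ => by rw [E_one, E_one], fun a _ => E_one M a⟩
        mul_mem' := by
          rintro x y ⟨hx1, hx2, hx3⟩ ⟨hy1, hy2, hy3⟩
          refine ⟨mul_mem hx1 hy1, fun a b hab => ?_, fun a ha => ?_⟩
          · rw [E_mul M hx1 hy1, E_mul M hx1 hy1, hx2 a b hab, hy2 a b hab]
          · rw [E_mul M hx1 hy1, hx3 a ha, hy3 a ha, add_zero]
        inv_mem' := by
          rintro x ⟨hx1, hx2, hx3⟩
          refine ⟨inv_mem hx1, fun a b hab => ?_, fun a ha => ?_⟩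
          · rw [E_inv M hx1, E_inv M hx1, hx2 a b hab]
          · rw [E_inv M hx1, hx3 a ha] }
    have h1 : sSup (pts V (S : Subgroup G) A) ≤ K := by
      refine sSup_le fun r hr => ?_
      obtain ⟨a, b, c, hsw, hc, rfl⟩ := (h.mem_pts hA hm).1 hr
      rw [zpowers_le]
      refine ⟨hc.1, fun a' b' hab => ?_, fun a' ha' => ?_⟩
      · by_cases h1 : a' = a
        · subst h1
          rw [hab.uniq hA S.isPGroup' hm hsw, hc.left hsw.1, hc.right hsw.1]
        by_cases h2 : a' = b
        · subst h2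
          rw [hab.uniq hA S.isPGroup' hm hsw.symm, hc.left hsw.1, hc.right hsw.1]
        have h3 : b' ≠ a := by
          rintro rfl
          exact h2 (hab.symm.uniq hA S.isPGroup' hm hsw)
        have h4 : b' ≠ b := by
          rintro rfl
          exact h1 (hab.symm.uniq hA S.isPGroup' hm hsw.symm)
        rw [hc.zero h1 h2, hc.zero h3 h4]
      · refine hc.zero ?_ ?_
        · rintro rfl; exact hsw.nz hA hm ha'
        · rintro rfl; exact hsw.symm.nz hA hm ha'
    exact h1 hv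
  · rintro ⟨hv, h1, h2⟩
    refine mem_of_inv hv h1 (fun a ha => ?_) fun a b c hab hac => hab.uniq hA S.isPGroup' hm hac
    have ha2 : a.2 ≠ 0 := fun h0 => ha (h2 a h0)
    obtain ⟨b, hb⟩ := exists_sw hA hm h.sw ha2
    obtain ⟨c, hc⟩ := exists_isC (M := M) hb.2.1
    have h3 : zpowers c ≤ sSup (pts V (S : Subgroup G) A) := le_sSup ((h.mem_pts hA hm).2 ⟨a, b, c, hb, hc, rfl⟩)
    exact ⟨b, c, hb, hc, h3 (mem_zpowers c)⟩

omit [Finite G] in
theorem sq_one {v : G} (hv : v ∈ V) : v * v = 1 := by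
  have := hA.sq v hv
  rwa [pow_two] at this

/-- the vectors of `R` without the point `{a, b}` -/
theorem AD.mem_diff (hm : 1 ≤ m) (h : AD M A p q) {v : G} {a b : Pt k m} {c : G} (hab : Sw M a b)
    (hc : IsC M c a b) : v ∈ sSup (pts V (S : Subgroup G) A \ {zpowers c}) ↔
      v ∈ sSup (pts V (S : Subgroup G) A) ∧ E M v a = 0 := by
  constructor
  · intro hv
    have h0 : sSup (pts V (S : Subgroup G) A \ {zpowers c}) ≤ sSup (pts V (S : Subgroup G) A) :=
      sSup_le_sSup Set.sdiff_subset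
    refine ⟨h0 hv, ?_⟩
    let K : Subgroup G :=
      { carrier := {v | v ∈ V ∧ E M v a = 0}
        one_mem' := ⟨one_mem _, E_one M a⟩
        mul_mem' := by
          rintro x y ⟨hx1, hx2⟩ ⟨hy1, hy2⟩
          exact ⟨mul_mem hx1 hy1, by rw [E_mul M hx1 hy1, hx2, hy2, add_zero]⟩
        inv_mem' := by
          rintro x ⟨hx1, hx2⟩
          exact ⟨inv_mem hx1, by rw [E_inv M hx1, hx2]⟩ }
    have h1 : sSup (pts V (S : Subgroup G) A \ {zpowers c}) ≤ K := by
      refine sSup_le fun r hr => ?_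
      obtain ⟨a', b', c', hsw, hc', rfl⟩ := (h.mem_pts hA hm).1 hr.1
      rw [zpowers_le]
      refine ⟨hc'.1, hc'.zero ?_ ?_⟩
      · rintro rfl
        apply hr.2
        have h2 := hsw.uniq hA S.isPGroup' hm hab
        subst h2
        rw [Set.mem_singleton_iff, hc'.eq hc]
      · rintro rfl
        apply hr.2
        have h2 := hsw.symm.uniq hA S.isPGroup' hm hab
        subst h2
        rw [Set.mem_singleton_iff, hc'.eq hc.symm]
    exact (h1 hv).2
  · rintro ⟨hv, h1⟩
    obtain ⟨hvV, h2, h3⟩ := (h.mem_R hA hm).1 hv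
    refine mem_of_inv hvV h2 (fun r hr => ?_) fun a b c hab hac => hab.uniq hA S.isPGroup' hm hac
    have hr2 : r.2 ≠ 0 := fun h0 => hr (h3 r h0)
    obtain ⟨t, ht⟩ := exists_sw hA hm h.sw hr2
    obtain ⟨d, hd⟩ := exists_isC (M := M) ht.2.1
    have h4 : zpowers d ≤ sSup (pts V (S : Subgroup G) A \ {zpowers c}) := by
      refine le_sSup ⟨(h.mem_pts hA hm).2 ⟨r, t, d, ht, hd, rfl⟩, fun h5 => ?_⟩
      rw [Set.mem_singleton_iff] at h5
      have h6 : d ∈ zpowers c := by rw [← h5]; exact mem_zpowers d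
      rcases (mem_zpowers_iff (sq_one hA hc.1)).1 h6 with h7 | h7
      · exact hd.ne_one ht.1 h7
      · rw [h7] at hd
        have h8 : E M c r = 1 := hd.left ht.1
        by_cases e1 : r = a
        · rw [e1] at hr; exact hr h1
        by_cases e2 : r = b
        · rw [e2] at hr; exact hr (by rw [← h2 a b hab, h1])
        rw [hc.zero e1 e2] at h8
        exact zero_ne_one h8
    exact ⟨t, d, ht, hd, h4 (mem_zpowers d)⟩

end ad

end Cfsg.Agent.Omega.NOThreeL.NF.SymRP

end

section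


/-!
# THEOREM NF (#17343), even-subset modules: the parts without offenders

`M : SymK T H V ⊥ k m`, `E M v` = the characteristic function of `v`.

* `le_of_full` : an `H`-invariant subgroup which contains the element with support "all nonzero points" contains `V`;
* `exists_gen` : `2^m k` conjugates of a transposition generate, modulo `C_H(V)`, all of its conjugates and have no
  common fixed vector.
-/

set_option autoImplicit false

namespace Cfsg.Agent.Omega.NOThreeL.NF.SymG

open Subgroup Cfsg Cfsg.Agent.ZN Cfsg.Agent.Omega.FFThm Cfsg.Agent.Omega.MinPar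
open Cfsg.Agent.ZN.ChoiceBase hiding mem_zc
open Cfsg.Agent.Omega.Half (Amb)
open Cfsg.Agent.Omega.Half.SymA
open scoped Classical

universe u

variable {G : Type u} [Group G] {T H V : Subgroup G} {k m : ℕ}

section

variable {M : SymK T H V ⊥ k m} (hA : Amb T H V)

/-- the characteristic function of the pair `{p, q}` -/
def pr (p q r : Pt k m) : ZMod 2 := (if r = p then 1 else 0) + (if r = q then 1 else 0)

theorem E_conj {g v : G} {π : Equiv.Perm (Pt k m)} (hπ : Mv M g π) (hv : v ∈ V) (p : Pt k m) :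
    E M (g * v * g⁻¹) p = E M v (π⁻¹ p) := by
  have h1 := hπ v hv (π⁻¹ p)
  have h2 : π (π⁻¹ p) = p := π.apply_symm_apply p
  rwa [h2] at h1

include hA

/-- the commutator with a transposition -/
theorem E_comm_swap {g v : G} (hg : g ∈ H) {p q : Pt k m} (hπ : Mv M g (Equiv.swap p q)) (hv : v ∈ V)
    (r : Pt k m) : E M (g * v * g⁻¹ * v) r = (E M v p + E M v q) * pr p q r := by
  rw [E_mul M (hA.conj_mem hg hv) hv, E_conj hπ hv, Equiv.swap_inv, pr]
  by_cases hp : r = p
  · subst hp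
    rw [Equiv.swap_apply_left, if_pos rfl]
    by_cases hq : r = q
    · subst hq
      rw [if_pos rfl, CharTwo.add_self_eq_zero, zero_mul]
    · rw [if_neg hq, add_zero, mul_one, add_comm]
  · by_cases hq : r = q
    · subst hq
      rw [Equiv.swap_apply_right, if_neg hp, if_pos rfl, zero_add, mul_one]
    · rw [Equiv.swap_apply_of_ne_of_ne hp hq, if_neg hp, if_neg hq, add_zero, mul_zero, CharTwo.add_self_eq_zero]

omit hA in
/-- `V` is generated by the pairs `{(i,0), (i,x)}`. -/
theorem le_of_pairs {D : Subgroup G}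
    (h : ∀ v ∈ V, ∀ p : Pt k m, p.2 ≠ 0 → (∀ r, E M v r = pr (p.1, 0) p r) → v ∈ D) : V ≤ D := by
  have key : ∀ n : ℕ, ∀ v ∈ V, (Finset.univ.filter fun p : Pt k m => p.2 ≠ 0 ∧ E M v p ≠ 0).card = n → v ∈ D := by
    intro n
    induction n with
    | zero =>
      intro v hv hn
      have h1 : v = 1 := by
        refine eq_one M hv ?_
        have h2 : ∀ p : Pt k m, p.2 ≠ 0 → E M v p = 0 := by
          intro p hp
          by_contra h3
          have h4 : p ∈ (Finset.univ.filter fun p : Pt k m => p.2 ≠ 0 ∧ E M v p ≠ 0) :=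
            Finset.mem_filter.2 ⟨Finset.mem_univ _, hp, h3⟩
          rw [Finset.card_eq_zero.1 hn] at h4
          exact absurd h4 (Finset.notMem_empty _)
        rintro ⟨i, x⟩
        by_cases hx : x = 0
        · subst hx
          have h3 := even M hv i
          rwa [Finset.sum_eq_single (0 : Fin (2 ^ m + 1)) (fun b _ hb => h2 (i, b) hb)
            (fun h => absurd (Finset.mem_univ _) h)] at h3
        · exact h2 (i, x) hx
      rw [h1]
      exact one_mem D
    | succ n ih =>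
      intro v hv hn
      obtain ⟨p, hp⟩ : (Finset.univ.filter fun p : Pt k m => p.2 ≠ 0 ∧ E M v p ≠ 0).Nonempty :=
        Finset.card_pos.1 (by omega)
      obtain ⟨-, hp0, hpv⟩ := Finset.mem_filter.1 hp
      obtain ⟨w, hw, hwE⟩ := exists_pair M (p := (p.1, 0)) (q := p) rfl
      have hwD : w ∈ D := h w hw p hp0 hwE
      have hvw : E M (v * w) p = 0 := by
        rw [E_mul M hv hw, hwE, if_neg, if_pos rfl, zero_add, zmod2_ne.1 hpv, CharTwo.add_self_eq_zero]
        intro h1
        exact hp0 (congrArg Prod.snd h1)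
      have hvw' : ∀ r : Pt k m, r.2 ≠ 0 → r ≠ p → E M (v * w) r = E M v r := by
        intro r hr hrp
        rw [E_mul M hv hw, hwE, if_neg, if_neg hrp, add_zero, add_zero]
        intro h1
        exact hr (congrArg Prod.snd h1)
      have hcard : (Finset.univ.filter fun r : Pt k m => r.2 ≠ 0 ∧ E M (v * w) r ≠ 0) =
          (Finset.univ.filter fun r : Pt k m => r.2 ≠ 0 ∧ E M v r ≠ 0).erase p := by
        ext r
        simp only [Finset.mem_filter, Finset.mem_univ, true_and, Finset.mem_erase]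
        constructor
        · rintro ⟨h1, h2⟩
          have h3 : r ≠ p := fun h3 => h2 (h3 ▸ hvw)
          exact ⟨h3, h1, by rwa [hvw' r h1 h3] at h2⟩
        · rintro ⟨h1, h2, h3⟩
          exact ⟨h2, by rwa [hvw' r h2 h1]⟩
      have h1 := ih (v * w) (mul_mem hv hw) (by rw [hcard, Finset.card_erase_of_mem hp, hn]; rfl)
      have h2 : v = v * w * w⁻¹ := by group
      rw [h2]
      exact mul_mem h1 (inv_mem hwD)
  exact fun v hv => key _ v hv rfl

/-- **irreducibility**: an `H`-invariant subgroup containing the full vector contains `V`. -/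
theorem le_of_full {D : Subgroup G} (hD : H ≤ normalizer (D : Set G)) {z : G} (hz : z ∈ V) (hzD : z ∈ D)
    (hE : ∀ p, E M z p = if p.2 = 0 then 0 else 1) : V ≤ D := by
  refine le_of_pairs (M := M) fun v hv p hp hvE => ?_
  obtain ⟨g, hg, hπ⟩ := exists_swap (M := M) (p := (p.1, 0)) (q := p) rfl
  have h1 : g * z * g⁻¹ * z ∈ D := mul_mem ((mem_normalizer_iff.mp (hD hg) z).mp hzD) hzD
  have h2 : v = g * z * g⁻¹ * z := by
    refine inj M hv (mul_mem (hA.conj_mem hg hz) hz) fun r => ?_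
    rw [hvE, E_comm_swap hA hg hπ hz, hE, hE, if_pos rfl, if_neg hp, zero_add, one_mul]
  rw [h2]
  exact h1

/-! ### transitivity on ordered pairs -/

theorem exists_two {p q p' q' : Pt k m} (hpq : p ≠ q) (h1 : p.1 = q.1) (hpq' : p' ≠ q') (h1' : p'.1 = q'.1) :
    ∃ g ∈ H, ∃ π, Mv M g π ∧ π p = p' ∧ π q = q' := by
  obtain ⟨t, ht, π, hπ, hπ1⟩ := trans_sum (M := M) p.1 p'.1
  have e1 : (π p).1 = p'.1 := hπ1 p rfl
  have e2 : (π q).1 = p'.1 := hπ1 q h1.symm
  obtain ⟨g, hg, hρ⟩ := exists_swap (M := M) (p := π p) (q := p') e1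
  have hne : π q ≠ π p := fun h => hpq (π.injective h.symm)
  set q2 := Equiv.swap (π p) p' (π q) with hq2
  have e3 : q2.1 = p'.1 := by
    rw [hq2]
    by_cases h : π q = p'
    · rw [h, Equiv.swap_apply_right, e1]
    · rw [Equiv.swap_apply_of_ne_of_ne hne h, e2]
  have e4 : q2 ≠ p' := by
    intro h
    apply hne
    have h2 : Equiv.swap (π p) p' (π q) = Equiv.swap (π p) p' (π p) := by rw [Equiv.swap_apply_left]; exact h
    exact (Equiv.swap (π p) p').injective h2
  obtain ⟨g', hg', hρ'⟩ := exists_swap (M := M) (p := q2) (q := q') (e3.trans h1')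
  refine ⟨g' * (g * t), mul_mem hg' (mul_mem hg (hA.TH ht)), _,
    hρ'.mul hA (hρ.mul hA hπ (hA.TH ht)) (mul_mem hg (hA.TH ht)), ?_, ?_⟩
  · rw [Equiv.Perm.mul_apply, Equiv.Perm.mul_apply, Equiv.swap_apply_left,
      Equiv.swap_apply_of_ne_of_ne e4.symm hpq']
  · rw [Equiv.Perm.mul_apply, Equiv.Perm.mul_apply, ← hq2, Equiv.swap_apply_left]

theorem mem_cent_of_mv_one {g : G} (hg : g ∈ H) (h : Mv M g 1) : g ∈ centralizer (V : Set G) := by
  rw [mem_centralizer_iff]
  intro v hv
  have h1 : g * v * g⁻¹ = v := by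
    refine inj M (hA.conj_mem hg hv) hv fun p => ?_
    have := h v hv p
    rwa [Equiv.Perm.one_apply] at this
  rw [mul_inv_eq_iff_eq_mul] at h1
  exact h1.symm

omit hA in
theorem mv_one_of_mem_cent {g : G} (h : g ∈ centralizer (V : Set G)) : Mv M g 1 := by
  intro v hv p
  rw [Equiv.Perm.one_apply, ← mem_centralizer_iff.1 h v hv, mul_inv_cancel_right]

omit hA in
/-- a vector vanishing at all nonzero points is trivial -/
theorem eq_one_of_nz {v : G} (hv : v ∈ V) (h : ∀ p : Pt k m, p.2 ≠ 0 → E M v p = 0) : v = 1 := by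
  refine eq_one M hv ?_
  rintro ⟨i, x⟩
  by_cases hx : x = 0
  · subst hx
    have h3 := even M hv i
    rwa [Finset.sum_eq_single (0 : Fin (2 ^ m + 1)) (fun b _ hb => h (i, b) hb)
      (fun h => absurd (Finset.mem_univ _) h)] at h3
  · exact h (i, x) hx

omit hA in
/-- `|V| = 2^(2^m k)` -/
theorem card_V (M : SymK T H V ⊥ k m) : Nat.card V = 2 ^ (2 ^ m * k) := by
  have h1 : Function.Bijective fun (v : V) (i : Fin k) (j : Fin (2 ^ m)) => E M (v : G) (i, j.succ) := by
    constructor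
    · intro v w h
      apply Subtype.ext
      rw [← mul_inv_eq_one]
      refine eq_one_of_nz (M := M) (mul_mem v.2 (inv_mem w.2)) fun p hp => ?_
      obtain ⟨j, hj⟩ := Fin.exists_succ_eq.2 hp
      have h2 := congrFun (congrFun h p.1) j
      have h3 : ((p.1, j.succ) : Pt k m) = p := by rw [hj]
      change E M (v : G) (p.1, j.succ) = E M (w : G) (p.1, j.succ) at h2
      rw [h3] at h2
      rw [E_mul M v.2 (inv_mem w.2), E_inv M w.2, h2, CharTwo.add_self_eq_zero]
    · intro y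
      let F : (i : Fin k) → Fin (2 ^ m + 1) → ZMod 2 := fun i => Fin.cons (α := fun _ => ZMod 2) (∑ j, y i j) (y i)
      obtain ⟨v, hv, h⟩ := exists_E M (fun p : Pt k m => F p.1 p.2) (fun i => by
        rw [Fin.sum_univ_succ]
        change F i 0 + ∑ j : Fin (2 ^ m), F i j.succ = 0
        have h0 : F i 0 = ∑ j, y i j := rfl
        have h1 : ∀ j : Fin (2 ^ m), F i j.succ = y i j := fun j => rfl
        simp_rw [h0, h1]
        exact CharTwo.add_self_eq_zero _)
      refine ⟨⟨v, hv⟩, ?_⟩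
      funext i j
      change E M v (i, j.succ) = y i j
      rw [h]
      rfl
  rw [Nat.card_eq_of_bijective _ h1, Nat.card_fun, Nat.card_fun, Nat.card_zmod, Nat.card_fin, Nat.card_fin, ← pow_mul]

omit hA in
/-- `A` acts as `⟨(p q)⟩` -/
structure Tp (M : SymK T H V ⊥ k m) (A : Subgroup G) (p q : Pt k m) : Prop where
  le : A ≤ H
  ne : p ≠ q
  fst : p.1 = q.1
  all : ∀ a ∈ A, Mv M a 1 ∨ Mv M a (Equiv.swap p q)
  ex : ∃ b ∈ A, Mv M b (Equiv.swap p q)

theorem not_cent_of_swap (hm : 1 ≤ m) {g : G} (hg : g ∈ H) {p q : Pt k m} (hpq : p ≠ q)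
    (h : Mv M g (Equiv.swap p q)) : g ∉ centralizer (V : Set G) := by
  intro hc
  have h1 := h.unique hA hm (mv_one_of_mem_cent (M := M) hc) hg
  have h2 := Equiv.congr_fun h1 p
  rw [Equiv.swap_apply_left, Equiv.Perm.one_apply] at h2
  exact hpq h2.symm

theorem Tp.relIndex (hm : 1 ≤ m) {A : Subgroup G} {p q : Pt k m} (h : Tp M A p q) :
    (centralizer (V : Set G)).relIndex A = 2 := by
  obtain ⟨b, hb, hπ⟩ := h.ex
  have hbc := not_cent_of_swap hA hm (h.le hb) h.ne hπ
  rw [Subgroup.relIndex, Subgroup.index_eq_two_iff]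
  refine ⟨⟨b, hb⟩, fun a => ?_⟩
  rw [mem_subgroupOf, mem_subgroupOf]
  rcases h.all a a.2 with h1 | h1
  · have h2 := mem_cent_of_mv_one hA (h.le a.2) h1
    refine Or.inr ⟨h2, fun h3 => hbc ?_⟩
    have h4 := mul_mem (inv_mem h2) h3
    rw [Subgroup.coe_mul, inv_mul_cancel_left] at h4
    exact h4
  · refine Or.inl ⟨?_, not_cent_of_swap hA hm (h.le a.2) h.ne h1⟩
    refine mem_cent_of_mv_one (M := M) hA (mul_mem (h.le a.2) (h.le hb)) ?_
    have h2 := h1.mul hA hπ (h.le hb)
    rwa [Equiv.swap_mul_self] at h2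

/-- in a subgroup containing the adjacent transpositions of a summand -/
theorem adj_gen {N : Subgroup G} (hN : N ≤ H) {i : Fin k}
    (h : ∀ j : Fin (2 ^ m), ∃ n ∈ N, Mv M n (Equiv.swap (i, j.castSucc) (i, j.succ))) :
    ∀ x y : Fin (2 ^ m + 1), ∃ n ∈ N, Mv M n (Equiv.swap (i, x) (i, y)) := by
  have key : ∀ b : ℕ, ∀ a : ℕ, ∀ (ha : a < 2 ^ m + 1) (hb : b < 2 ^ m + 1), a < b →
      ∃ n ∈ N, Mv M n (Equiv.swap (i, (⟨a, ha⟩ : Fin (2 ^ m + 1))) (i, ⟨b, hb⟩)) := by
    intro b
    induction b with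
    | zero => intro a _ _ h; omega
    | succ b ih =>
      intro a ha hb hab
      obtain ⟨n, hn, hπ⟩ := h ⟨b, by omega⟩
      have e1 : (⟨b, by omega⟩ : Fin (2 ^ m)).castSucc = (⟨b, by omega⟩ : Fin (2 ^ m + 1)) := rfl
      have e2 : (⟨b, by omega⟩ : Fin (2 ^ m)).succ = (⟨b + 1, hb⟩ : Fin (2 ^ m + 1)) := rfl
      rw [e1, e2] at hπ
      rcases Nat.lt_succ_iff_lt_or_eq.1 hab with h1 | h1
      · obtain ⟨n', hn', hπ'⟩ := ih a ha (by omega) h1
        refine ⟨n * n' * n⁻¹, mul_mem (mul_mem hn hn') (inv_mem hn), ?_⟩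
        have h2 := hπ.conj hA (hN hn) hπ' (hN hn')
        have h3 : ∀ (π : Equiv.Perm (Pt k m)) (p q : Pt k m), π * Equiv.swap p q * π⁻¹ =
            Equiv.swap (π p) (π q) := fun π p q => (Equiv.swap_apply_apply π p q).symm
        rw [h3, Equiv.swap_apply_left, Equiv.swap_apply_of_ne_of_ne] at h2
        · exact h2
        · intro h4
          have := congrArg Fin.val (congrArg Prod.snd h4)
          change a = b at this
          omega
        · intro h4
          have := congrArg Fin.val (congrArg Prod.snd h4)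
          change a = b + 1 at this
          omega
      · subst h1
        exact ⟨n, hn, hπ⟩
  intro x y
  rcases lt_trichotomy x.val y.val with h1 | h1 | h1
  · exact key y x x.2 y.2 h1
  · have : x = y := Fin.ext h1
    subst this
    rw [Equiv.swap_self]
    exact ⟨1, one_mem N, Mv_one M⟩
  · rw [Equiv.swap_comm]
    exact key x y y.2 x.2 h1

/-- **the field `gen`** -/
theorem Tp.exists_gen (hm : 1 ≤ m) {A : Subgroup G} {p q : Pt k m} (h : Tp M A p q) :
    ∃ X : Finset G, (∀ x ∈ X, x ∈ H) ∧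
    (centralizer (V : Set G)).relIndex A ^ X.card ≤ Nat.card V ∧
    V ⊓ (⨅ x ∈ X, centralizer ((cj x A : Subgroup G) : Set G)) = ⊥ ∧
    ∀ g ∈ H, cj g A ≤ (⨆ x ∈ X, cj x A) ⊔ (H ⊓ centralizer (V : Set G)) := by
  have hex : ∀ ij : Fin k × Fin (2 ^ m), ∃ g ∈ H, ∃ π, Mv M g π ∧ π p = (ij.1, ij.2.castSucc) ∧
      π q = (ij.1, ij.2.succ) := fun ij => exists_two hA h.ne h.fst
        (fun h1 => by
          have := congrArg Fin.val (congrArg Prod.snd h1)
          simp at this) rfl
  choose g hg π hπ hp hq using hex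
  obtain ⟨b, hb, hbs⟩ := h.ex
  have hbH := h.le hb
  have hconj : ∀ ij, Mv M (g ij * b * (g ij)⁻¹) (Equiv.swap (ij.1, ij.2.castSucc) (ij.1, ij.2.succ)) := by
    intro ij
    have h2 := (hπ ij).conj hA (hg ij) hbs hbH
    have h3 : π ij * Equiv.swap p q * (π ij)⁻¹ = Equiv.swap (π ij p) (π ij q) := (Equiv.swap_apply_apply _ p q).symm
    rwa [h3, hp, hq] at h2
  let X : Finset G := Finset.univ.image g
  have hX : ∀ x ∈ X, x ∈ H := by
    intro x hx
    obtain ⟨ij, -, rfl⟩ := Finset.mem_image.1 hx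
    exact hg ij
  have hgX : ∀ ij, g ij ∈ X := fun ij => Finset.mem_image_of_mem _ (Finset.mem_univ _)
  refine ⟨X, hX, ?_, ?_, ?_⟩
  · rw [h.relIndex hA hm, card_V M]
    refine Nat.pow_le_pow_right (by norm_num) ?_
    refine Finset.card_image_le.trans ?_
    rw [Finset.card_univ, Fintype.card_prod, Fintype.card_fin, Fintype.card_fin, mul_comm]
  · rw [eq_bot_iff]
    intro v hv
    obtain ⟨hvV, hvc⟩ := mem_inf.1 hv
    rw [mem_bot]
    have h1 : ∀ (i : Fin k) (j : Fin (2 ^ m)), E M v (i, j.castSucc) = E M v (i, j.succ) := by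
      intro i j
      have h2 : v ∈ centralizer ((cj (g (i, j)) A : Subgroup G) : Set G) := by
        have h3 := (mem_iInf.1 hvc (g (i, j)))
        exact (mem_iInf.1 h3 (hgX (i, j)))
      have h3 : g (i, j) * b * (g (i, j))⁻¹ ∈ cj (g (i, j)) A := by
        rw [mem_cj]
        have : (g (i, j))⁻¹ * (g (i, j) * b * (g (i, j))⁻¹) * g (i, j) = b := by group
        rw [this]
        exact hb
      have h4 := mem_centralizer_iff.1 h2 _ h3
      have h5 : g (i, j) * b * (g (i, j))⁻¹ * v * (g (i, j) * b * (g (i, j))⁻¹)⁻¹ = v := by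
        rw [h4, mul_inv_cancel_right]
      have h6 := hconj (i, j) v hvV (i, j.castSucc)
      rw [h5, Equiv.swap_apply_left] at h6
      exact h6.symm
    have h2 : ∀ (i : Fin k) (x : Fin (2 ^ m + 1)), E M v (i, x) = E M v (i, 0) := by
      intro i x
      induction x using Fin.induction with
      | zero => rfl
      | succ j ih => rw [← h1 i j, ih]
    refine eq_one M hvV ?_
    rintro ⟨i, x⟩
    rw [h2]
    have h3 := even M hvV i
    simp_rw [h2 i] at h3
    rw [Finset.sum_const, Finset.card_univ, Fintype.card_fin, nsmul_eq_mul] at h3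
    have h4 : ((2 ^ m + 1 : ℕ) : ZMod 2) = 1 := by
      push_cast
      have : (2 : ZMod 2) = 0 := rfl
      rw [this, zero_pow (by omega), zero_add]
    rwa [h4, one_mul] at h3
  · intro x hx y hy
    let N : Subgroup G := ⨆ x ∈ X, cj x A
    have hN : N ≤ H := by
      refine iSup₂_le fun x hx => ?_
      intro a ha
      rw [mem_cj] at ha
      have h2 : a = x * (x⁻¹ * a * x) * x⁻¹ := by group
      rw [h2]
      exact mul_mem (mul_mem (hX x hx) (h.le ha)) (inv_mem (hX x hx))
    have hle : ∀ x ∈ X, cj x A ≤ N := fun x hx => le_iSup₂_of_le x hx le_rfl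
    rw [mem_cj] at hy
    have hy' : y = x * (x⁻¹ * y * x) * x⁻¹ := by group
    have hyH : y ∈ H := by
      rw [hy']
      exact mul_mem (mul_mem hx (h.le hy)) (inv_mem hx)
    obtain ⟨ρ, hρ, hρ1⟩ := exists_mv (M := M) hx
    have hact : Mv M y 1 ∨ Mv M y (Equiv.swap (ρ p) (ρ q)) := by
      rcases h.all _ hy with h2 | h2
      · left
        have h3 := hρ.conj hA hx h2 (h.le hy)
        rw [← hy', mul_one, mul_inv_cancel] at h3
        exact h3
      · right
        have h3 := hρ.conj hA hx h2 (h.le hy)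
        have h4 : ρ * Equiv.swap p q * ρ⁻¹ = Equiv.swap (ρ p) (ρ q) := (Equiv.swap_apply_apply _ p q).symm
        rwa [← hy', h4] at h3
    rcases hact with h2 | h2
    · exact mem_sup_right (mem_inf.2 ⟨hyH, mem_cent_of_mv_one hA hyH h2⟩)
    · have e1 : (ρ p).1 = (ρ q).1 := hρ1 p q h.fst
      obtain ⟨n, hn, hnm⟩ := adj_gen hA hN (i := (ρ p).1) (fun j => ⟨_, hle _ (hgX ((ρ p).1, j)) (by
        rw [mem_cj]
        have : (g ((ρ p).1, j))⁻¹ * (g ((ρ p).1, j) * b * (g ((ρ p).1, j))⁻¹) * g ((ρ p).1, j) = b := by group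
        rw [this]
        exact hb), hconj ((ρ p).1, j)⟩) (ρ p).2 (ρ q).2
      have e2 : (((ρ p).1, (ρ q).2) : Pt k m) = ρ q := Prod.ext e1 rfl
      rw [e2] at hnm
      have h3 : Mv M (n⁻¹ * y) 1 := by
        have h4 := (hnm.inv hA (hN hn)).mul hA h2 hyH
        have h5 : (Equiv.swap (((ρ p).1, (ρ p).2) : Pt k m) (ρ q))⁻¹ * Equiv.swap (ρ p) (ρ q) = 1 :=
          inv_mul_cancel _
        rwa [h5] at h4
      have h4 : y = n * (n⁻¹ * y) := by group
      rw [h4]
      exact mul_mem (mem_sup_left hn) (mem_sup_right (mem_inf.2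
        ⟨mul_mem (inv_mem (hN hn)) hyH, mem_cent_of_mv_one hA (mul_mem (inv_mem (hN hn)) hyH) h3⟩))

end

end Cfsg.Agent.Omega.NOThreeL.NF.SymG

end

section


/-!
# THEOREM NF (#17343), even-subset modules: matchings

`μ i` : a matching of the nonzero points of the `i`-th summand (`Mt μ`).

* `toR` : every `v ∈ V` is `H`-conjugate to a `μ`-invariant vector vanishing at the zero points;
* `mem_of_pairs` : such a vector is a product of pairs `{x, μ x}`.
-/

set_option autoImplicit false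

namespace Cfsg.Agent.Omega.NOThreeL.NF.SymG

open Subgroup Cfsg Cfsg.Agent.ZN Cfsg.Agent.Omega.FFThm Cfsg.Agent.Omega.MinPar
open Cfsg.Agent.ZN.ChoiceBase hiding mem_zc
open Cfsg.Agent.Omega.Half (Amb)
open Cfsg.Agent.Omega.Half.SymA
open scoped Classical

universe u

variable {G : Type u} [Group G] {T H V : Subgroup G} {k m : ℕ}

/-- a matching of the nonzero points -/
structure Mt {k m : ℕ} (μ : Pt k m → Pt k m) : Prop where
  fst : ∀ p, (μ p).1 = p.1
  nz : ∀ p, p.2 ≠ 0 → (μ p).2 ≠ 0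
  ne : ∀ p, p.2 ≠ 0 → μ p ≠ p
  inv : ∀ p, p.2 ≠ 0 → μ (μ p) = p

theorem Mt.exists_set {μ : Pt k m → Pt k m} (h : Mt μ) (i : Fin k) : ∀ n : ℕ, 2 * n ≤ 2 ^ m →
    ∃ U : Finset (Fin (2 ^ m + 1)), U.card = 2 * n ∧ 0 ∉ U ∧ ∀ x ∈ U, (μ (i, x)).2 ∈ U := by
  intro n
  induction n with
  | zero => exact fun _ => ⟨∅, rfl, Finset.notMem_empty _, fun x hx => absurd hx (Finset.notMem_empty _)⟩
  | succ n ih =>
    intro hn
    obtain ⟨U, hU, h0, hinv⟩ := ih (by omega)
    obtain ⟨x, hx⟩ : ∃ x, x ∉ insert (0 : Fin (2 ^ m + 1)) U := by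
      by_contra hcon
      push Not at hcon
      have h1 : (Finset.univ : Finset (Fin (2 ^ m + 1))).card ≤ (insert (0 : Fin (2 ^ m + 1)) U).card :=
        Finset.card_le_card fun x _ => hcon x
      rw [Finset.card_insert_of_notMem h0, hU, Finset.card_univ, Fintype.card_fin] at h1
      omega
    rw [Finset.mem_insert, not_or] at hx
    obtain ⟨hx0, hxU⟩ := hx
    have e1 : ((i, (μ (i, x)).2) : Pt k m) = μ (i, x) := Prod.ext (h.fst (i, x)).symm rfl
    have h2 : (μ (i, x)).2 ≠ x := fun h3 => h.ne (i, x) hx0 (by rw [← e1, h3])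
    have h3 : (μ (i, (μ (i, x)).2)).2 = x := by rw [e1, h.inv (i, x) hx0]
    have h4 : (μ (i, x)).2 ∉ U := fun h5 => hxU (by rw [← h3]; exact hinv _ h5)
    refine ⟨insert x (insert (μ (i, x)).2 U), ?_, ?_, ?_⟩
    · rw [Finset.card_insert_of_notMem, Finset.card_insert_of_notMem h4, hU]
      · ring
      · rw [Finset.mem_insert, not_or]
        exact ⟨h2.symm, hxU⟩
    · rw [Finset.mem_insert, Finset.mem_insert, not_or, not_or]
      exact ⟨fun h5 => hx0 h5.symm, fun h5 => h.nz (i, x) hx0 h5.symm, h0⟩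
    · intro y hy
      rw [Finset.mem_insert, Finset.mem_insert] at hy
      rw [Finset.mem_insert, Finset.mem_insert]
      rcases hy with rfl | rfl | hy
      · exact Or.inr (Or.inl rfl)
      · exact Or.inl h3
      · exact Or.inr (Or.inr (hinv y hy))

/-- two subsets of the same size are conjugate under the symmetric group -/
theorem exists_perm {α : Type*} [Fintype α] (s t : Finset α) (h : s.card = t.card) :
    ∃ σ : Equiv.Perm α, ∀ x, σ x ∈ t ↔ x ∈ s := by
  let e : {x // x ∈ s} ≃ {x // x ∈ t} := Finset.equivOfCardEq h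
  refine ⟨e.extendSubtype, fun x => ⟨fun hx => ?_, fun hx => e.extendSubtype_mem x hx⟩⟩
  by_contra hxs
  exact e.extendSubtype_not_mem x hxs hx

theorem toR (M : SymK T H V ⊥ k m) (hm : 1 ≤ m) {μ : Pt k m → Pt k m} (hμ : Mt μ) {v : G} (hv : v ∈ V) :
    ∃ g ∈ H, (∀ i, E M (g * v * g⁻¹) (i, 0) = 0) ∧
      ∀ p : Pt k m, p.2 ≠ 0 → E M (g * v * g⁻¹) (μ p) = E M (g * v * g⁻¹) p := by
  let s : Fin k → Finset (Fin (2 ^ m + 1)) := fun i => Finset.univ.filter fun x => E M v (i, x) ≠ 0
  have hs : ∀ i, ∃ n, (s i).card = 2 * n ∧ 2 * n ≤ 2 ^ m := by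
    intro i
    have h1 := even M hv i
    have h2 : ∑ x, E M v (i, x) = (((s i).card : ℕ) : ZMod 2) := by
      rw [Finset.card_eq_sum_ones, Nat.cast_sum, Finset.sum_filter]
      refine Finset.sum_congr rfl fun x _ => ?_
      by_cases hx : E M v (i, x) = 0
      · rw [if_neg (not_not.2 hx), hx]
      · rw [if_pos hx, zmod2_ne.1 hx, Nat.cast_one]
    rw [h2, ZMod.natCast_eq_zero_iff] at h1
    obtain ⟨n, hn⟩ := h1
    refine ⟨n, hn, ?_⟩
    have h3 : (s i).card ≤ 2 ^ m + 1 := (Finset.card_le_univ _).trans (by rw [Fintype.card_fin])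
    obtain ⟨c, hc⟩ : 2 ∣ 2 ^ m := dvd_pow_self 2 (by omega)
    omega
  have hτ : ∀ i, ∃ τ : Equiv.Perm (Fin (2 ^ m + 1)), ∃ U : Finset (Fin (2 ^ m + 1)), 0 ∉ U ∧
      (∀ x ∈ U, (μ (i, x)).2 ∈ U) ∧ ∀ x, τ x ∈ U ↔ x ∈ s i := by
    intro i
    obtain ⟨n, hn, hle⟩ := hs i
    obtain ⟨U, hU, h0, h1⟩ := hμ.exists_set i n hle
    obtain ⟨τ, hτ⟩ := exists_perm (s i) U (by rw [hn, hU])
    exact ⟨τ, U, h0, h1, hτ⟩
  choose τ U h0 hinv hτ using hτ
  obtain ⟨g, hg, hact, -⟩ := M.lift τ
  have hE : ∀ i x, E M (g * v * g⁻¹) (i, x) ≠ 0 ↔ x ∈ U i := by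
    intro i x
    have h1 := hact v hv i ((τ i).symm x)
    rw [Equiv.apply_symm_apply] at h1
    change E M (g * v * g⁻¹) (i, x) = E M v (i, (τ i).symm x) at h1
    rw [h1]
    have h2 := hτ i ((τ i).symm x)
    rw [Equiv.apply_symm_apply] at h2
    rw [h2, Finset.mem_filter]
    exact ⟨fun h => ⟨Finset.mem_univ _, h⟩, fun h => h.2⟩
  refine ⟨g, hg, fun i => ?_, fun p hp => ?_⟩
  · by_contra h
    exact h0 i ((hE i 0).1 h)
  · have key : ∀ p : Pt k m, E M (g * v * g⁻¹) p ≠ 0 → E M (g * v * g⁻¹) (μ p) ≠ 0 := by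
      rintro ⟨i, x⟩ h
      have h1 := hinv i x ((hE i x).1 h)
      have e1 : ((i, (μ (i, x)).2) : Pt k m) = μ (i, x) := Prod.ext (hμ.fst (i, x)).symm rfl
      rw [← e1]
      exact (hE _ _).2 h1
    by_cases h1 : E M (g * v * g⁻¹) p = 0
    · rw [h1]
      by_contra h2
      have h3 := key _ h2
      rw [hμ.inv p hp] at h3
      exact h3 h1
    · rw [zmod2_ne.1 h1, zmod2_ne.1 (key p h1)]

theorem mem_of_pairs (M : SymK T H V ⊥ k m) {μ : Pt k m → Pt k m} (hμ : Mt μ) {D : Subgroup G}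
    (h : ∀ p : Pt k m, p.2 ≠ 0 → ∀ r ∈ V, (∀ q, E M r q = pr p (μ p) q) → r ∈ D) {v : G} (hv : v ∈ V)
    (h0 : ∀ i, E M v (i, 0) = 0) (hinv : ∀ p : Pt k m, p.2 ≠ 0 → E M v (μ p) = E M v p) : v ∈ D := by
  have key : ∀ n : ℕ, ∀ v ∈ V, (∀ i, E M v (i, 0) = 0) → (∀ p : Pt k m, p.2 ≠ 0 → E M v (μ p) = E M v p) →
      (Finset.univ.filter fun p : Pt k m => E M v p ≠ 0).card ≤ n → v ∈ D := by
    intro n
    induction n with
    | zero =>
      intro v hv _ _ hn
      have h1 : v = 1 := by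
        refine eq_one M hv fun p => ?_
        by_contra h3
        have h4 : p ∈ (Finset.univ.filter fun p : Pt k m => E M v p ≠ 0) :=
          Finset.mem_filter.2 ⟨Finset.mem_univ _, h3⟩
        rw [Finset.card_eq_zero.1 (Nat.le_zero.1 hn)] at h4
        exact absurd h4 (Finset.notMem_empty _)
      rw [h1]
      exact one_mem D
    | succ n ih =>
      intro v hv h0 hinv hn
      by_cases hne : (Finset.univ.filter fun p : Pt k m => E M v p ≠ 0).Nonempty
      swap
      · rw [Finset.not_nonempty_iff_eq_empty] at hne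
        exact ih v hv h0 hinv (by rw [hne]; exact Nat.zero_le _)
      obtain ⟨p, hp⟩ := hne
      obtain ⟨-, hpv⟩ := Finset.mem_filter.1 hp
      have hp0 : p.2 ≠ 0 := by
        intro h1
        apply hpv
        have : p = (p.1, 0) := Prod.ext rfl h1
        rw [this, h0]
      obtain ⟨w, hw, hwE⟩ := exists_pair M (p := p) (q := μ p) (hμ.fst p).symm
      have hwD : w ∈ D := h p hp0 w hw hwE
      have hμp := hμ.ne p hp0
      have hw1 : ∀ q, q ≠ p → q ≠ μ p → E M w q = 0 := fun q h1 h2 => by rw [hwE, if_neg h1, if_neg h2, add_zero]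
      have hwp : E M w p = 1 := by rw [hwE, if_pos rfl, if_neg hμp.symm, add_zero]
      have hwq : E M w (μ p) = 1 := by rw [hwE, if_neg hμp, if_pos rfl, zero_add]
      have h1 := ih (v * w) (mul_mem hv hw) (fun i => by
        rw [E_mul M hv hw, h0, hw1, add_zero]
        · intro h2
          exact hp0 (congrArg Prod.snd h2).symm
        · intro h2
          exact hμ.nz p hp0 (congrArg Prod.snd h2).symm) (fun q hq => by
        rw [E_mul M hv hw, E_mul M hv hw, hinv q hq]
        congr 1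
        by_cases h2 : q = p
        · rw [h2, hwp, hwq]
        · by_cases h3 : q = μ p
          · rw [h3, hμ.inv p hp0, hwp, hwq]
          · rw [hw1 q h2 h3, hw1]
            · intro h4
              apply h3
              rw [← h4, hμ.inv q hq]
            · intro h4
              apply h2
              rw [← hμ.inv q hq, h4, hμ.inv p hp0]) (by
        have h2 : (Finset.univ.filter fun r : Pt k m => E M (v * w) r ≠ 0) ⊆
            (Finset.univ.filter fun r : Pt k m => E M v r ≠ 0).erase p := by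
          intro r hr
          have hr' := (Finset.mem_filter.1 hr).2
          rw [E_mul M hv hw] at hr'
          have h3 : r ≠ p := by
            rintro rfl
            apply hr'
            rw [zmod2_ne.1 hpv, hwp, CharTwo.add_self_eq_zero]
          refine Finset.mem_erase.2 ⟨h3, Finset.mem_filter.2 ⟨Finset.mem_univ _, fun h4 => hr' ?_⟩⟩
          have h5 : r ≠ μ p := by
            rintro rfl
            rw [hinv p hp0] at h4
            exact hpv h4
          rw [h4, hw1 r h3 h5, add_zero]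
        have h3 := Finset.card_le_card h2
        rw [Finset.card_erase_of_mem hp] at h3
        omega)
      have h2 : v = v * w * w⁻¹ := by group
      rw [h2]
      exact mul_mem h1 (inv_mem hwD)
  exact key _ v hv h0 hinv le_rfl

end Cfsg.Agent.Omega.NOThreeL.NF.SymG

end

section


/-!
# THEOREM NF (#17343), even-subset modules: the fields `gen`, `toR`, `irr` of `RP`

`h : AD M A p q`. 
-/

set_option autoImplicit false

namespace Cfsg.Agent.Omega.NOThreeL.NF.SymRP

open Subgroup Cfsg Cfsg.Agent.ZN Cfsg.Agent.ZN.ChoiceBase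
open Cfsg.Agent.Omega.FFThm (ElemM OffM NoOverM ConclM SymK SymKM ActsSym)
open Cfsg.Agent.Omega.Half (Amb)
open Cfsg.Agent.Omega.Half.SymA
open Cfsg.Agent.Omega.NOThreeL.NF.SymG (Tp Mt mv_one_of_mem_cent le_of_full)
open scoped Classical commutatorElement

universe u

variable {G : Type u} [Group G] [Finite G] {S : Sylow 2 G} {P V : Subgroup G} {k m : ℕ}
  {M : SymK (S : Subgroup G) P V ⊥ k m} (hA : Amb (S : Subgroup G) P V)
  {A : Subgroup G} {p q : Pt k m}
include hA

omit [Finite G] in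
theorem AD.tp (h : AD M A p q) : Tp M A p q where
  le := h.le.trans hA.TH
  ne := h.sw.1
  fst := h.sw.2.1
  all a ha := (h.all a ha).imp (fun h1 => mv_one_of_mem_cent h1) id
  ex := h.ex

omit [Finite G] in
/-- field `gen` of `RP` -/
theorem AD.gen (hm : 1 ≤ m) (h : AD M A p q) : ∃ X : Finset G, (∀ x ∈ X, x ∈ P) ∧
    (centralizer (V : Set G)).relIndex A ^ X.card ≤ Nat.card V ∧
    V ⊓ (⨅ x ∈ X, centralizer ((cj x A : Subgroup G) : Set G)) = ⊥ ∧
    ∀ g ∈ P, cj g A ≤ (⨆ x ∈ X, cj x A) ⊔ (P ⊓ centralizer (V : Set G)) :=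
  (h.tp hA).exists_gen hA hm

/-- field `irr` of `RP` -/
theorem irr (M : SymK (S : Subgroup G) P V ⊥ k m) (hm : 1 ≤ m) {z : G} (hz : z ∈ zc (S : Subgroup G)) (hz1 : z ≠ 1)
    {D : Subgroup G} (hD : P ≤ normalizer (D : Set G)) (hzD : z ∈ D) : V ≤ D :=
  le_of_full hA hD (hA.zc hz) hzD (E_zc (M := M) hA hm hz hz1)

/-- field `toR` of `RP` -/
theorem AD.toR (hm : 1 ≤ m) (h : AD M A p q) {v : G} (hv : v ∈ V) :
    ∃ g ∈ P, g * v * g⁻¹ ∈ sSup (pts V (S : Subgroup G) A) := by
  let μ : Pt k m → Pt k m := fun a => if ha : ∃ b, Sw M a b then ha.choose else a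
  have hμ : ∀ a b, Sw M a b → μ a = b := by
    intro a b hab
    have ha : ∃ b, Sw M a b := ⟨b, hab⟩
    have h1 : μ a = ha.choose := dif_pos ha
    rw [h1]
    exact ha.choose_spec.uniq hA S.isPGroup' hm hab
  have hex : ∀ a : Pt k m, a.2 ≠ 0 → Sw M a (μ a) := by
    intro a ha
    obtain ⟨b, hb⟩ := exists_sw hA hm h.sw ha
    rwa [hμ a b hb]
  have hMt : Mt μ := by
    refine ⟨fun a => ?_, fun a ha => ((hex a ha).symm).nz hA hm, fun a ha => (hex a ha).1.symm,
      fun a ha => hμ _ _ (hex a ha).symm⟩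
    by_cases ha : ∃ b, Sw M a b
    · obtain ⟨b, hb⟩ := ha
      rw [hμ a b hb]
      exact hb.2.1.symm
    · have h1 : μ a = a := dif_neg ha
      rw [h1]
  obtain ⟨g, hg, h1, h2⟩ := SymG.toR M hm hMt hv
  refine ⟨g, hg, (h.mem_R hA hm).2 ⟨hA.conj_mem hg hv, fun a b hab => ?_, ?_⟩⟩
  · rw [← h2 a (hab.nz hA hm), hμ a b hab]
  · rintro ⟨i, x⟩ hx
    change x = 0 at hx
    rw [hx]
    exact h1 i

end Cfsg.Agent.Omega.NOThreeL.NF.SymRP

end
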